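/-
8 × 8 matrices over the field with eight elements, packed in rows of 32 bits.
-/
import Cfsg.Agent.Lib.Chev.OfCheck
import Cfsg.Agent.Lib.ChevClassical.DataD4
import Mathlib.Data.Nat.Bitwise
import Mathlib.Algebra.CharP.Two
import Mathlib.Tactic.FinCases
import Mathlib.Algebra.BigOperators.Fin

set_option autoImplicit false
set_option maxRecDepth 100000
set_option linter.unusedSectionVars false

namespace CfsgLib.Spectrum3D4

open Matrix CfsgLib.Chev CfsgLib.ChevClassical.D4

/-- A row multiplied by the primitive element. -/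
def xmul (r : ℕ) : ℕ :=
  ((r &&& 858993459) <<< 1) ^^^ ((r >>> 2) &&& 286331153) ^^^ (((r >>> 2) &&& 286331153) <<< 1)

variable {K : Type*} [Field K]

/-- The value of a digit of three bits. -/
def dec (ω : K) (r j : ℕ) : K :=
  (if r.testBit (4 * j) then 1 else 0) + (if r.testBit (4 * j + 1) then ω else 0) +
    (if r.testBit (4 * j + 2) then ω ^ 2 else 0)

theorem dec_zero (ω : K) (j : ℕ) : dec ω 0 j = 0 := by simp [dec]

theorem dec_succ (ω : K) (r j : ℕ) : dec ω r (j + 1) = dec ω (r >>> 4) j := by
  simp [dec, Nat.testBit_shiftRight, Nat.mul_succ, add_comm, add_left_comm]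

variable [CharP K 2]

theorem ite_xor (a b : Bool) (x : K) :
    (if (a ^^ b) then x else 0) = (if a then x else 0) + (if b then x else 0) := by
  cases a <;> cases b <;> simp [CharTwo.add_self_eq_zero]

theorem dec_xor (ω : K) (r s j : ℕ) : dec ω (r ^^^ s) j = dec ω r j + dec ω s j := by
  simp only [dec, Nat.testBit_xor, ite_xor]
  ring

theorem mask_bits : ∀ k : Fin 32, (858993459).testBit k.1 = decide (k.1 % 4 < 2) ∧
    (286331153).testBit k.1 = decide (k.1 % 4 = 0) := by decide +kernel

theorem xmul_bits (r j : ℕ) (hj : j < 8) :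
    (xmul r).testBit (4 * j) = r.testBit (4 * j + 2) ∧
    (xmul r).testBit (4 * j + 1) = (r.testBit (4 * j) ^^ r.testBit (4 * j + 2)) ∧
    (xmul r).testBit (4 * j + 2) = r.testBit (4 * j + 1) := by
  have b0 := mask_bits ⟨4 * j, by omega⟩
  have b1 := mask_bits ⟨4 * j + 1, by omega⟩
  have b2 := mask_bits ⟨4 * j + 2, by omega⟩
  simp only [show 4 * j % 4 = 0 by omega, show (4 * j + 1) % 4 = 1 by omega,
    show (4 * j + 2) % 4 = 2 by omega] at b0 b1 b2
  refine ⟨?_, ?_, ?_⟩
  · rcases j with _ | j
    · simp [xmul, Nat.testBit_and, Nat.testBit_shiftLeft, Nat.testBit_shiftRight, Nat.testBit_xor,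
        -Nat.testBit_zero] at b0 ⊢
      simp [b0.1, b0.2]
    · have h := mask_bits ⟨4 * (j + 1) - 1, by omega⟩
      simp only [show (4 * (j + 1) - 1) % 4 = 3 by omega] at h
      simp [xmul, Nat.testBit_and, Nat.testBit_shiftLeft, Nat.testBit_shiftRight, Nat.testBit_xor, b0.1, b0.2,
        h.1, h.2, Nat.add_comm, -Nat.testBit_zero]
  · simp [xmul, Nat.testBit_and, Nat.testBit_shiftLeft, Nat.testBit_shiftRight, Nat.testBit_xor, b0.1, b0.2,
      b1.1, b1.2, Nat.add_comm 2, -Nat.testBit_zero]
  · simp [xmul, Nat.testBit_and, Nat.testBit_shiftLeft, Nat.testBit_shiftRight, Nat.testBit_xor, b1.1, b1.2,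
      b2.1, b2.2, Nat.add_comm 2, -Nat.testBit_zero]

theorem dec_xmul {ω : K} (hω : ω ^ 3 = ω + 1) (r : ℕ) {j : ℕ} (hj : j < 8) :
    dec ω (xmul r) j = ω * dec ω r j := by
  obtain ⟨h0, h1, h2⟩ := xmul_bits r j hj
  simp only [dec, h0, h1, h2, ite_xor]
  cases r.testBit (4 * j) <;> cases r.testBit (4 * j + 1) <;> cases r.testBit (4 * j + 2) <;>
    simp [mul_add, pow_succ] at hω ⊢ <;> ring_nf at hω ⊢ <;> simp [hω] <;> ring_nf

/-- The three multiples of a row. -/
noncomputable def planes (B : List ℕ) : List (ℕ × ℕ × ℕ) :=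
  List.rec [] (fun r _ ih => force r fun r => force (xmul r) fun x => force (xmul x) fun y => (r, x, y) :: ih) B

theorem planes_eq : ∀ B : List ℕ, planes B = B.map fun r => (r, xmul r, xmul (xmul r))
  | [] => rfl
  | r :: B => by
    show force r (fun r => force (xmul r) fun x => force (xmul x) fun y => (r, x, y) :: planes B) = _
    simp only [force_eq, List.map_cons, planes_eq B]

/-- A row times a matrix. -/
noncomputable def rowMul (P : List (ℕ × ℕ × ℕ)) : ℕ → ℕ :=
  List.rec (motive := fun _ => ℕ → ℕ) (fun _ => nat_lit 0) (fun p _ acc a => force a fun a =>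
    Nat.xor (Nat.xor (Nat.xor (Nat.mul (Nat.mod a (nat_lit 2)) p.1)
      (Nat.mul (Nat.mod (Nat.div a (nat_lit 2)) (nat_lit 2)) p.2.1))
      (Nat.mul (Nat.mod (Nat.div a (nat_lit 4)) (nat_lit 2)) p.2.2)) (acc (Nat.div a (nat_lit 16)))) P

theorem rowMul_cons (p : ℕ × ℕ × ℕ) (P : List (ℕ × ℕ × ℕ)) (a : ℕ) :
    rowMul (p :: P) a =
      (a % 2 * p.1 ^^^ a / 2 % 2 * p.2.1 ^^^ a / 4 % 2 * p.2.2) ^^^ rowMul P (a / 16) := by
  show force a (fun a =>
    Nat.xor (Nat.xor (Nat.xor (Nat.mul (Nat.mod a 2) p.1)
      (Nat.mul (Nat.mod (Nat.div a 2) 2) p.2.1))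
      (Nat.mul (Nat.mod (Nat.div a 4) 2) p.2.2)) (rowMul P (Nat.div a 16))) = _
  rw [force_eq]
  rfl

theorem dec_bit_mul (ω : K) (a k r j : ℕ) :
    dec ω (a / 2 ^ k % 2 * r) j = if a.testBit k then dec ω r j else 0 := by
  rw [Nat.testBit_eq_decide_div_mod_eq]
  rcases Nat.mod_two_eq_zero_or_one (a / 2 ^ k) with h | h <;> simp [h, dec_zero]

theorem dec_rowMul {ω : K} (hω : ω ^ 3 = ω + 1) {j : ℕ} (hj : j < 8) : ∀ (B : List ℕ) (a : ℕ),
    dec ω (rowMul (planes B) a) j = ∑ i : Fin B.length, dec ω a i * dec ω B[i] j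
  | [], a => by simp [planes, rowMul, dec_zero]
  | r :: B, a => by
    have h := dec_rowMul hω hj B (a / 16)
    rw [planes_eq, List.map_cons, rowMul_cons, ← planes_eq, dec_xor, dec_xor, dec_xor, h]
    have h0 := dec_bit_mul ω a 0 r j
    have h1 := dec_bit_mul ω a 1 (xmul r) j
    have h2 := dec_bit_mul ω a 2 (xmul (xmul r)) j
    simp only [pow_zero, Nat.div_one, pow_one, show (2 : ℕ) ^ 2 = 4 from rfl, dec_xmul hω _ hj] at h0 h1 h2
    rw [h0, h1, h2]
    simp only [List.length_cons]
    rw [Fin.sum_univ_succ]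
    congr 1
    · simp only [Fin.val_zero, List.getElem_cons_zero, Fin.getElem_fin]
      generalize dec ω r j = D
      simp only [dec, mul_zero, zero_add]
      split_ifs <;> ring
    · refine Finset.sum_congr rfl fun i _ => ?_
      simp [dec_succ, Nat.shiftRight_eq_div_pow]

/-- A product of packed matrices. -/
noncomputable def mul (A B : List ℕ) : List ℕ :=
  (fun P => List.rec [] (fun a _ ih => force (rowMul P a) fun c => c :: ih) A) (planes B)

theorem mul_eq (A B : List ℕ) : mul A B = A.map (rowMul (planes B)) := by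
  induction A with
  | nil => rfl
  | cons a A ih =>
    show force (rowMul (planes B) a) (fun c => c :: mul A B) = _
    rw [force_eq, List.map_cons, ih]

/-- The identity matrix. -/
def one8 : List ℕ := [1, 16, 256, 4096, 65536, 1048576, 16777216, 268435456]

/-- The zero matrix. -/
def zero8 : List ℕ := [0, 0, 0, 0, 0, 0, 0, 0]

/-- A sum of packed matrices. -/
noncomputable def add (A B : List ℕ) : List ℕ :=
  List.rec (motive := fun _ => List ℕ → List ℕ) (fun _ => [])
    (fun a _ ih B => match B with
      | [] => []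
      | b :: B => force (Nat.xor a b) fun c => c :: ih B) A B

theorem add_eq : ∀ A B : List ℕ, add A B = List.zipWith (· ^^^ ·) A B
  | [], B => by simp [add]
  | a :: A, [] => rfl
  | a :: A, b :: B => by
    show force (Nat.xor a b) (fun c => c :: add A B) = _
    rw [force_eq, List.zipWith_cons_cons, add_eq A B]
    rfl

/-- All rows multiplied by the primitive element. -/
noncomputable def xscal (A : List ℕ) : List ℕ :=
  List.rec [] (fun a _ ih => force (xmul a) fun c => c :: ih) A

theorem xscal_eq (A : List ℕ) : xscal A = A.map xmul := by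
  induction A with
  | nil => rfl
  | cons a A ih =>
    show force (xmul a) (fun c => c :: xscal A) = _
    rw [force_eq, List.map_cons, ih]

/-- Equality of packed matrices. -/
noncomputable def meq (A : List ℕ) : List ℕ → Bool :=
  List.rec (motive := fun _ => List ℕ → Bool) (fun B => B.isEmpty)
    (fun a _ ih B => match B with
      | [] => false
      | b :: B => Nat.beq a b && ih B) A

theorem meq_iff : ∀ A B : List ℕ, meq A B = true ↔ A = B
  | [], B => by cases B <;> simp [meq]
  | a :: A, [] => by simp [meq]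
  | a :: A, b :: B => by
    show (Nat.beq a b && meq A B) = true ↔ _
    simp [meq_iff A B]

/-- The matrix of a packed matrix. -/
def mat (ω : K) (A : List ℕ) : Matrix I I K := fun i k => dec ω (A.getD (code i).1 0) (code k).1

/-- A packed matrix has eight rows. -/
def Ok (A : List ℕ) : Prop := A.length = 8

theorem Ok.mul {A : List ℕ} (hA : Ok A) (B : List ℕ) : Ok (mul A B) := by simp [Ok, mul_eq]; exact hA

theorem Ok.add {A B : List ℕ} (hA : Ok A) (hB : Ok B) : Ok (add A B) := by
  simp [Ok, add_eq, List.length_zipWith]; rw [hA, hB]; rfl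

theorem Ok.xscal {A : List ℕ} (hA : Ok A) : Ok (xscal A) := by simp [Ok, xscal_eq]; exact hA

theorem ok_one8 : Ok one8 := rfl

theorem ok_zero8 : Ok zero8 := rfl

/-- The coding of coordinates as an equivalence. -/
noncomputable def codeEquiv : I ≃ Fin 8 := Equiv.ofBijective code (by decide)

theorem mat_mul {ω : K} (hω : ω ^ 3 = ω + 1) {A B : List ℕ} (hA : Ok A) (hB : Ok B) :
    mat ω (mul A B) = mat ω A * mat ω B := by
  ext i k
  rw [Matrix.mul_apply]
  simp only [mat]
  rw [mul_eq, List.getD_eq_getElem _ _ (by simp only [List.length_map, show A.length = 8 from hA]; exact (code i).2),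
    List.getElem_map, dec_rowMul hω (code k).2,
    ← Equiv.sum_comp (codeEquiv.trans (finCongr hB.symm))]
  refine Finset.sum_congr rfl fun x _ => ?_
  rw [List.getD_eq_getElem _ _ (by simp only [show A.length = 8 from hA]; exact (code i).2),
    List.getD_eq_getElem _ _ (by simp only [show B.length = 8 from hB]; exact (code x).2)]
  rfl

theorem mat_add (ω : K) {A B : List ℕ} (hA : Ok A) (hB : Ok B) :
    mat ω (add A B) = mat ω A + mat ω B := by
  ext i k
  have hi := (code i).2
  simp only [mat, Matrix.add_apply]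
  rw [add_eq, List.getD_eq_getElem _ _ (by simp only [List.length_zipWith, show A.length = 8 from hA, show B.length = 8 from hB]; exact hi),
    List.getElem_zipWith, dec_xor, List.getD_eq_getElem _ _ (by simp only [show A.length = 8 from hA]; exact hi),
    List.getD_eq_getElem _ _ (by simp only [show B.length = 8 from hB]; exact hi)]

theorem mat_xscal {ω : K} (hω : ω ^ 3 = ω + 1) {A : List ℕ} (hA : Ok A) :
    mat ω (xscal A) = ω • mat ω A := by
  ext i k
  have hi := (code i).2
  simp only [mat, Matrix.smul_apply, smul_eq_mul]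
  rw [xscal_eq, List.getD_eq_getElem _ _ (by simp only [List.length_map, show A.length = 8 from hA]; exact hi), List.getElem_map,
    dec_xmul hω _ (code k).2, List.getD_eq_getElem _ _ (by simp only [show A.length = 8 from hA]; exact hi)]

theorem one8_bits : ∀ a b : Fin 8, ∀ c : Fin 3,
    (one8.getD a.1 0).testBit (4 * b.1 + c.1) = decide (a = b ∧ c.1 = 0) := by decide +kernel

theorem mat_one (ω : K) : mat ω one8 = 1 := by
  ext i k
  have h0 := one8_bits (code i) (code k) 0
  have h1 := one8_bits (code i) (code k) 1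
  have h2 := one8_bits (code i) (code k) 2
  simp only [Fin.val_zero, Fin.val_one, Fin.val_two, add_zero] at h0 h1 h2
  simp only [mat, dec, h0, h1, h2]
  by_cases h : i = k
  · subst h; simp
  · have : code i ≠ code k := fun e => h (codeEquiv.injective e)
    simp [h, this]

theorem mat_zero (ω : K) : mat ω zero8 = 0 := by
  ext i k
  have : ∀ a : Fin 8, zero8.getD a.1 0 = 0 := by decide
  show dec ω (zero8.getD (code i).1 0) (code k).1 = 0
  rw [this, dec_zero]

end CfsgLib.Spectrum3D4
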