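/-
Commuting semisimple and unipotent transformations of an eight dimensional space over the field with eight elements.
-/
import Mathlib.LinearAlgebra.Matrix.Rank
import Mathlib.LinearAlgebra.FiniteDimensional.Lemmas
import Mathlib.FieldTheory.Finite.Basic
import Mathlib.Algebra.CharP.Two
import Mathlib.Algebra.CharP.Algebra
import Mathlib.Tactic.NoncommRing

set_option autoImplicit false
set_option linter.unusedSectionVars false

namespace CfsgLib.Spectrum3D4

open Matrix Module

variable {K : Type*} [Field K] {ι : Type*} [Fintype ι] [DecidableEq ι]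

theorem rank_add_le' (A B : Matrix ι ι K) : (A + B).rank ≤ A.rank + B.rank := by
  have hle : (A + B).mulVecLin.range ≤ A.mulVecLin.range ⊔ B.mulVecLin.range := by
    rintro _ ⟨v, rfl⟩
    rw [Matrix.mulVecLin_apply, Matrix.add_mulVec]
    exact Submodule.add_mem_sup ⟨v, rfl⟩ ⟨v, rfl⟩
  exact (Submodule.finrank_mono hle).trans (Submodule.finrank_add_le_finrank_add_finrank _ _)

theorem minors_of_rank_le_one {M : Matrix ι ι K} (h : M.rank ≤ 1) (i j k l : ι) :
    M i j * M k l = M i l * M k j := by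
  obtain ⟨v, hv⟩ := finrank_le_one_iff.1 h
  obtain ⟨a, ha⟩ := hv ⟨M.mulVecLin (Pi.single j 1), LinearMap.mem_range_self _ _⟩
  obtain ⟨b, hb⟩ := hv ⟨M.mulVecLin (Pi.single l 1), LinearMap.mem_range_self _ _⟩
  have ha' := congrArg Subtype.val ha
  have hb' := congrArg Subtype.val hb
  simp only [SetLike.val_smul, Matrix.mulVecLin_apply, Matrix.mulVec_single_one] at ha' hb'
  have a1 : a * v.1 i = M i j := congrFun ha' i
  have a2 : a * v.1 k = M k j := congrFun ha' k
  have b1 : b * v.1 i = M i l := congrFun hb' i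
  have b2 : b * v.1 k = M k l := congrFun hb' k
  rw [← a1, ← a2, ← b1, ← b2]
  ring

variable [Fintype K] [CharP K 2] (hK : Fintype.card K = 8)

include hK in
theorem pow_seven {x : K} (hx : x ≠ 0) : x ^ 7 = 1 := by
  have := FiniteField.pow_card_sub_one_eq_one x hx
  rwa [hK] at this

include hK in
theorem eq_one_of_pow {x : K} {t : ℕ} (ht : t = 2 ∨ t = 3) (h : x ^ t = 1) : x = 1 := by
  have hx : x ≠ 0 := by rintro rfl; rcases ht with rfl | rfl <;> simp at h
  have h7 := pow_seven hK hx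
  rcases ht with rfl | rfl
  · calc x = (x ^ 2) ^ 4 * (x ^ 7)⁻¹ := by rw [eq_mul_inv_iff_mul_eq₀ (pow_ne_zero _ hx)]; ring
      _ = 1 := by rw [h, h7]; simp
  · calc x = x ^ 7 * ((x ^ 3) ^ 2)⁻¹ := by rw [eq_mul_inv_iff_mul_eq₀ (pow_ne_zero _ (pow_ne_zero _ hx))]; ring
      _ = 1 := by rw [h, h7]; simp

include hK in
theorem no_root (c : K) : c ^ 2 + c + 1 ≠ 0 := fun h => by
  have h3 : c ^ 3 = 1 := by linear_combination (c - 1) * h
  have hc := eq_one_of_pow hK (Or.inr rfl) h3
  subst hc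
  exact one_ne_zero (α := K) (by linear_combination h - CharTwo.two_eq_zero (R := K))

/-- A nilpotent map lowers the dimension of an invariant subspace. -/
theorem finrank_map_pow {V : Type*} [AddCommGroup V] [Module K V] [FiniteDimensional K V]
    (n : V →ₗ[K] V) {m : ℕ} (hm : n ^ m = 0) (W : Submodule K V) (hW : W.map n ≤ W) :
    ∀ k, W.map (n ^ k) = ⊥ ∨ finrank K ↥(W.map (n ^ k)) + k ≤ finrank K W
  | 0 => Or.inr (by rw [pow_zero, Module.End.one_eq_id, Submodule.map_id, add_zero])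
  | k + 1 => by
    have e : W.map (n ^ (k + 1)) = (W.map (n ^ k)).map n := by
      rw [pow_succ', ← Submodule.map_comp]; rfl
    have e' : W.map (n ^ (k + 1)) ≤ W.map (n ^ k) := by
      rw [pow_succ, Module.End.mul_eq_comp, Submodule.map_comp]
      exact Submodule.map_mono hW
    by_cases h0 : W.map (n ^ (k + 1)) = ⊥
    · exact Or.inl h0
    refine Or.inr ?_
    rcases finrank_map_pow n hm W hW k with h | h
    · rw [e, h, Submodule.map_bot] at h0; exact absurd rfl h0
    rcases e'.eq_or_lt with heq | hlt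
    · exfalso
      have hall : ∀ i, W.map (n ^ (k + i)) = W.map (n ^ k) := fun i => by
        induction i with
        | zero => rfl
        | succ i ih =>
          calc W.map (n ^ (k + (i + 1))) = (W.map (n ^ (k + i))).map n := by
                rw [← add_assoc, pow_succ', ← Submodule.map_comp]; rfl
            _ = W.map (n ^ (k + 1)) := by rw [ih, e]
            _ = W.map (n ^ k) := heq
      apply h0
      rw [heq, ← hall m, pow_add, hm, mul_zero, Submodule.map_zero]
    · have := Submodule.finrank_lt_finrank_of_lt hlt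
      omega

variable {u s b : Matrix ι ι K}

theorem sum_four (u : Matrix ι ι K) [CharP (Matrix ι ι K) 2] :
    1 + u + u ^ 2 + u ^ 3 = (u - 1) ^ 3 := by
  have h2 : (2 : Matrix ι ι K) = 0 := CharTwo.two_eq_zero
  have h : (1 + u + u ^ 2 + u ^ 3) - (u - 1) ^ 3 = 2 * (1 - u + 2 * u ^ 2) := by noncomm_ring
  rw [h2, zero_mul] at h
  exact sub_eq_zero.1 h

include hK in
/-- A unipotent element of order four commuting with an element of order three. -/
theorem cube_mul_eq_zero [CharP (Matrix ι ι K) 2] (hι : Fintype.card ι = 8) (hu : u ^ 4 = 1) (hs : s ^ 3 = 1)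
    (hc : Commute u s) (he : (1 + s + s ^ 2).rank ≤ 4)
    (hN : ((u - 1) ^ 3).rank ≤ 1 → (u - 1) ^ 3 = 0) :
    (u - 1) ^ 3 * (1 + s + s ^ 2) = 0 := by
  obtain ⟨e, he'⟩ : ∃ e, e = 1 + s + s ^ 2 := ⟨_, rfl⟩
  rw [← he'] at he ⊢
  have hs4 : s ^ 4 = s := by rw [pow_succ, hs, one_mul]
  have h2 : (2 : Matrix ι ι K) = 0 := CharTwo.two_eq_zero
  have hee : e * e = e := by
    have h : e * e = 1 + s ^ 2 + s ^ 4 + 2 * (s + s ^ 2 + s ^ 3) := by rw [he']; noncomm_ring
    rw [h2, zero_mul, add_zero, hs4] at h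
    rw [h, he']; abel
  have hse : s * e = e := by
    rw [he', mul_add, mul_add, mul_one, ← sq, ← pow_succ', hs]; abel
  obtain ⟨N, hNd⟩ : ∃ N, N = u - 1 := ⟨_, rfl⟩
  rw [← hNd] at hN ⊢
  have hN4 : N ^ 4 = 0 := by
    have h : (u - 1) ^ 4 = (u ^ 4 - 1) + 2 * (-(2 * u ^ 3) + 3 * u ^ 2 - 2 * u + 1) := by noncomm_ring
    rw [h2, zero_mul, add_zero, hu, sub_self] at h
    rw [hNd, h]
  have hNs : Commute N s := hNd ▸ hc.sub_left (Commute.one_left s)
  have hNe : Commute N e := he' ▸ ((Commute.one_right N).add_right hNs).add_right (hNs.pow_right 2)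
  let n := Matrix.toLin' N
  let p := Matrix.toLin' e
  have hn4 : n ^ 4 = 0 := by
    show (Matrix.toLinAlgEquiv' N) ^ 4 = _
    rw [← map_pow, hN4, map_zero]
  have hn3 : n ^ 3 = Matrix.toLin' (N ^ 3) := by
    show (Matrix.toLinAlgEquiv' N) ^ 3 = _
    rw [← map_pow]; rfl
  have hcomm : ∀ v, p (n v) = n (p v) := fun v => by
    simp only [n, p, Matrix.toLin'_apply, Matrix.mulVec_mulVec, hNe.eq]
  have hW : p.range.map n ≤ p.range := by
    rintro _ ⟨_, ⟨v, rfl⟩, rfl⟩
    exact ⟨n v, hcomm v⟩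
  have hker : p.ker.map n ≤ p.ker := by
    rintro _ ⟨v, hv, rfl⟩
    rw [LinearMap.mem_ker, hcomm, LinearMap.mem_ker.1 hv, map_zero]
  have hrank : finrank K p.range ≤ 4 := he
  have hsum := p.finrank_range_add_finrank_ker
  rw [Module.finrank_fintype_fun_eq_card, hι] at hsum
  have key : p.range.map (n ^ 3) = ⊥ → N ^ 3 * e = 0 := fun hbot => by
    refine Matrix.toLin'.injective (LinearMap.ext fun v => ?_)
    rw [Matrix.toLin'_mul, map_zero, LinearMap.comp_apply, LinearMap.zero_apply, ← hn3]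
    have := Submodule.mem_map_of_mem (f := n ^ 3) (LinearMap.mem_range_self p v)
    rwa [hbot, Submodule.mem_bot] at this
  rcases finrank_map_pow n hn4 _ hW 3 with h | h
  · exact key h
  by_cases hd : finrank K p.range ≤ 3
  · exact key (Submodule.finrank_eq_zero.1 (by omega))
  -- the fixed space has dimension four, so the cube is concentrated on it
  have hker0 : p.ker.map (n ^ 3) = ⊥ := by
    rcases finrank_map_pow n hn4 _ hker 3 with h' | h'
    · exact h'
    by_contra hne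
    obtain ⟨w, hw, hw0⟩ := Submodule.exists_mem_ne_zero_of_ne_bot hne
    have h1 : finrank K ↥(p.ker.map (n ^ 3)) ≤ 1 := by omega
    obtain ⟨v, hv⟩ := finrank_le_one_iff.1 h1
    have hsw : Matrix.toLin' s w ∈ p.ker.map (n ^ 3) := by
      obtain ⟨x, hx, rfl⟩ := hw
      refine ⟨Matrix.toLin' s x, ?_, ?_⟩
      · rw [SetLike.mem_coe, LinearMap.mem_ker] at hx ⊢
        simp only [p, Matrix.toLin'_apply, Matrix.mulVec_mulVec] at hx ⊢
        rw [show e * s = s * e by
          rw [he']; exact (((Commute.one_left s).add_left (Commute.refl s)).add_left ((Commute.refl s).pow_left 2)).eq,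
          ← Matrix.mulVec_mulVec, hx, Matrix.mulVec_zero]
      · rw [hn3]
        simp only [Matrix.toLin'_apply, Matrix.mulVec_mulVec, (hNs.pow_left 3).eq]
    obtain ⟨a, ha⟩ := hv ⟨w, hw⟩
    obtain ⟨c, hc'⟩ := hv ⟨_, hsw⟩
    have ha' : a • v.1 = w := congrArg Subtype.val ha
    have ha0 : a ≠ 0 := fun h0 => hw0 (by rw [← ha', h0, zero_smul])
    have hc2 : Matrix.toLin' s w = (c / a) • w := by
      rw [← ha', smul_smul, div_mul_cancel₀ _ ha0, ha']
      exact (congrArg Subtype.val hc').symm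
    have hew : e *ᵥ w = 0 := by
      obtain ⟨x, hx, hxw⟩ := hw
      rw [← hxw, hn3, Matrix.toLin'_apply, Matrix.mulVec_mulVec, ← (hNe.pow_left 3).eq, ← Matrix.mulVec_mulVec]
      rw [SetLike.mem_coe, LinearMap.mem_ker] at hx
      simp only [p, Matrix.toLin'_apply] at hx
      rw [hx, Matrix.mulVec_zero]
    rw [Matrix.toLin'_apply] at hc2
    rw [he', Matrix.add_mulVec, Matrix.add_mulVec, Matrix.one_mulVec, sq, ← Matrix.mulVec_mulVec, hc2,
      Matrix.mulVec_smul, hc2, smul_smul] at hew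
    refine hw0 ((smul_eq_zero.1 (?_ : (1 + c / a + c / a * (c / a)) • w = 0)).resolve_left fun h0 =>
      no_root hK (c / a) (by linear_combination h0))
    rw [add_smul, add_smul, one_smul, hew]
  have hall : (LinearMap.range (n ^ 3)) ≤ p.range.map (n ^ 3) := by
    rintro _ ⟨v, rfl⟩
    refine ⟨p v, LinearMap.mem_range_self p v, ?_⟩
    have hk : v - p v ∈ p.ker := by
      rw [LinearMap.mem_ker, map_sub]
      simp only [p, Matrix.toLin'_apply, Matrix.mulVec_mulVec, hee, sub_self]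
    have := Submodule.mem_map_of_mem (f := n ^ 3) hk
    rw [hker0, Submodule.mem_bot, map_sub, sub_eq_zero] at this
    exact this.symm
  have : ((N ^ 3).rank) ≤ 1 := by
    have := Submodule.finrank_mono hall
    rw [hn3] at this h
    show finrank K (N ^ 3).mulVecLin.range ≤ 1
    rw [← Matrix.toLin'_apply']
    omega
  rw [hN this, zero_mul]

include hK in
/-- A transformation of order two or three acts trivially on a rank one eigenprojection. -/
theorem mul_eig_eq {E : Matrix ι ι K} (hE : E.rank ≤ 1) (hc : Commute b E) {t : ℕ} (ht : t = 2 ∨ t = 3)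
    (hb : b ^ t = 1) : b * E = E := by
  refine Matrix.ext_iff_mulVec.2 fun v => ?_
  rw [← Matrix.mulVec_mulVec]
  obtain ⟨a, ha⟩ := finrank_le_one_iff.1 hE
  obtain ⟨x, hx⟩ := ha ⟨E.mulVecLin v, LinearMap.mem_range_self _ _⟩
  obtain ⟨y, hy⟩ := ha ⟨E.mulVecLin (b *ᵥ v), LinearMap.mem_range_self _ _⟩
  have hx' : x • a.1 = E *ᵥ v := congrArg Subtype.val hx
  have hy' : y • a.1 = E *ᵥ (b *ᵥ v) := congrArg Subtype.val hy
  rw [Matrix.mulVec_mulVec, ← hc.eq, ← Matrix.mulVec_mulVec] at hy'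
  by_cases hw : E *ᵥ v = 0
  · rw [hw, Matrix.mulVec_zero]
  have hx0 : x ≠ 0 := fun h => hw (by rw [← hx', h, zero_smul])
  have he : b *ᵥ (E *ᵥ v) = (y / x) • (E *ᵥ v) := by
    rw [← hy', ← hx', smul_smul, div_mul_cancel₀ _ hx0]
  have hp : ∀ i : ℕ, (b ^ i) *ᵥ (E *ᵥ v) = (y / x) ^ i • (E *ᵥ v) := fun i => by
    induction i with
    | zero => simp
    | succ i ih => rw [pow_succ', ← Matrix.mulVec_mulVec, ih, Matrix.mulVec_smul, he, smul_smul, ← pow_succ]
  have h1 := hp t
  rw [hb, Matrix.one_mulVec] at h1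
  have h1' : (1 - (y / x) ^ t) • (E *ᵥ v) = 0 := by rw [sub_smul, one_smul, ← h1, sub_self]
  have := eq_one_of_pow hK ht (sub_eq_zero.1 ((smul_eq_zero.1 h1').resolve_right hw)).symm
  rw [he, this, one_smul]

include hK in
/-- Commuting with an element of order seven having six eigenlines. -/
theorem sub_one_eq {Z : Matrix ι ι K} (E : Fin 6 → Matrix ι ι K) (hsum : Z + ∑ k, E k = 1)
    (hE : ∀ k, (E k).rank ≤ 1) (hcZ : Commute b Z) (hcE : ∀ k, Commute b (E k)) {t : ℕ}
    (ht : t = 2 ∨ t = 3) (hb : b ^ t = 1) : b - 1 = Z * (b - 1) ∧ b - 1 = (b - 1) * Z := by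
  have h : (b - 1) * ∑ k, E k = 0 := by
    rw [Finset.mul_sum]
    refine Finset.sum_eq_zero fun k _ => ?_
    rw [sub_mul, one_mul, mul_eig_eq hK (hE k) (hcE k) ht hb, sub_self]
  have h' : b - 1 = (b - 1) * Z := by
    calc b - 1 = (b - 1) * (Z + ∑ k, E k) := by rw [hsum, mul_one]
      _ = (b - 1) * Z := by rw [mul_add, h, add_zero]
  exact ⟨(hcZ.sub_left (Commute.one_left Z)).eq ▸ h', h'⟩

theorem rank_sub_one_le_one [CharP (Matrix ι ι K) 2] {Z : Matrix ι ι K} (hZ : Z.rank ≤ 2)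
    (hb : b ^ 2 = 1) (h : b - 1 = Z * (b - 1) ∧ b - 1 = (b - 1) * Z) : (b - 1).rank ≤ 1 := by
  obtain ⟨M, hM⟩ : ∃ M, M = b - 1 := ⟨_, rfl⟩
  rw [← hM] at h ⊢
  have h2 : (2 : Matrix ι ι K) = 0 := CharTwo.two_eq_zero
  have hMM : M * M = 0 := by
    have e : M * M = b ^ 2 - 1 + 2 * (1 - b) := by rw [hM]; noncomm_ring
    rw [e, hb, h2]; simp
  by_contra hlt
  have hle : M.mulVecLin.range ≤ Z.mulVecLin.range := by
    rw [h.1, Matrix.mulVecLin_mul]; exact LinearMap.range_comp_le_range _ _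
  have heq : M.mulVecLin.range = Z.mulVecLin.range := by
    refine Submodule.eq_of_le_of_finrank_le hle ?_
    show Z.rank ≤ M.rank
    omega
  have h0 : M = 0 := by
    refine Matrix.ext_iff_mulVec.2 fun v => ?_
    obtain ⟨w, hw⟩ : Z.mulVecLin v ∈ M.mulVecLin.range := heq ▸ LinearMap.mem_range_self _ v
    simp only [Matrix.mulVecLin_apply] at hw
    rw [h.2, ← Matrix.mulVec_mulVec, ← hw, Matrix.mulVec_mulVec, hMM]
    simp
  exact hlt (by rw [h0, Matrix.rank_zero]; omega)

theorem not_order_three [CharP (Matrix ι ι K) 2] (hι : Fintype.card ι = 8) {Z : Matrix ι ι K}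
    (hZ : Z.rank ≤ 2) (he : (1 + b + b ^ 2).rank ≤ 4) (h : b - 1 = Z * (b - 1)) : False := by
  have h2 : (2 : Matrix ι ι K) = 0 := CharTwo.two_eq_zero
  have e : (1 : Matrix ι ι K) = (1 + b + b ^ 2) + b * (b - 1) := by
    have : (1 + b + b ^ 2) + b * (b - 1) = 1 + 2 * b ^ 2 := by noncomm_ring
    rw [this, h2, zero_mul, add_zero]
  have h1 : (b - 1).rank ≤ 2 := by rw [h]; exact (Matrix.rank_mul_le_left _ _).trans hZ
  have h3 : (b * (b - 1)).rank ≤ 2 := (Matrix.rank_mul_le_right _ _).trans h1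
  have h8 := congrArg Matrix.rank e
  rw [Matrix.rank_one, hι] at h8
  have := rank_add_le' (1 + b + b ^ 2) (b * (b - 1))
  omega

end CfsgLib.Spectrum3D4
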