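/-
Element orders of extensions by the natural module: the general argument.
-/
import Cfsg.Agent.Lib.Spectrum3D4.Lin
import Mathlib.GroupTheory.OrderOfElement
import Mathlib.LinearAlgebra.Matrix.GeneralLinearGroup.Defs
import Mathlib.NumberTheory.Divisors
import Mathlib.Tactic.NormNum.Prime

set_option autoImplicit false
set_option linter.unusedSectionVars false

namespace CfsgLib.Spectrum3D4

open Matrix Finset

variable {K : Type*} [Field K] [Fintype K] [CharP K 2] {ι : Type*} [Fintype ι] [DecidableEq ι]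

/-- The sum of the first powers. -/
def powSum (x : Matrix ι ι K) (n : ℕ) : Matrix ι ι K := ∑ i ∈ range n, x ^ i

theorem powSum_mul (x : Matrix ι ι K) (k : ℕ) :
    ∀ d, powSum x (k * d) = powSum x k * powSum (x ^ k) d
  | 0 => by simp [powSum]
  | d + 1 => by
    have h := powSum_mul x k d
    simp only [powSum] at h ⊢
    rw [Nat.mul_succ, Finset.sum_range_add, h, Finset.sum_range_succ _ d, mul_add]
    congr 1
    rw [Finset.sum_mul]
    refine Finset.sum_congr rfl fun i _ => ?_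
    rw [← pow_mul, ← pow_add, add_comm]

/-- The data of an element of order seven with fixed vectors. -/
def SevenData (s : Matrix ι ι K) : Prop :=
  powSum s 7 = 0 ∨ ∃ E : Fin 6 → Matrix ι ι K, powSum s 7 + ∑ k, E k = 1 ∧ (powSum s 7).rank ≤ 2 ∧
    (∀ k, (E k).rank ≤ 1) ∧ ∀ k b, Commute b s → Commute b (E k)

/-- The local facts. -/
structure Facts (H : Subgroup (GL ι K)) : Prop where
  card : Nat.card H = 2 ^ 12 * 3 ^ 4 * 7 ^ 2 * 13
  two : ∀ u ∈ H, (∃ l, u ^ 2 ^ l = 1) → u ^ 8 = 1 ∧ ((u : Matrix ι ι K) - 1) ^ 7 = 0 ∧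
    (u ^ 4 = 1 → (((u : Matrix ι ι K) - 1) ^ 3).rank ≤ 1 → ((u : Matrix ι ι K) - 1) ^ 3 = 0) ∧
    (u ^ 2 = 1 → ((u : Matrix ι ι K) - 1).rank ≤ 1 → u = 1)
  three : ∀ s ∈ H, (∃ l, s ^ 3 ^ l = 1) → s ^ 9 = 1 ∧ (s ^ 3 ≠ 1 → powSum (s : Matrix ι ι K) 9 = 0) ∧
    (s ^ 3 = 1 → s ≠ 1 → (1 + (s : Matrix ι ι K) + (s : Matrix ι ι K) ^ 2).rank ≤ 4)
  seven : ∀ s ∈ H, (∃ l, s ^ 7 ^ l = 1) → s ^ 7 = 1 ∧ (s ≠ 1 → SevenData (s : Matrix ι ι K))
  thirteen : ∀ s ∈ H, (∃ l, s ^ 13 ^ l = 1) → s ^ 13 = 1 ∧ (s ≠ 1 → powSum (s : Matrix ι ι K) 13 = 0)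

theorem sum_pow_eight (u : Matrix ι ι K) [CharP (Matrix ι ι K) 2] : powSum u 8 = (u - 1) ^ 7 := by
  have h2 : (2 : Matrix ι ι K) = 0 := CharTwo.two_eq_zero
  have h : powSum u 8 - (u - 1) ^ 7 =
      2 * (1 - 3 * u + 11 * u ^ 2 - 17 * u ^ 3 + 18 * u ^ 4 - 10 * u ^ 5 + 4 * u ^ 6) := by
    simp only [powSum, Finset.sum_range_succ, Finset.sum_range_zero]
    noncomm_ring
  rw [h2, zero_mul] at h
  exact sub_eq_zero.1 h

/-- Powers of an element agree on a fixed space with the powers of its unipotent part. -/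
theorem powSum_mul_eq {x u e : Matrix ι ι K} (h : x * e = u * e) (hc : Commute x u) (k : ℕ) :
    powSum x k * e = powSum u k * e := by
  simp only [powSum, Finset.sum_mul]
  refine Finset.sum_congr rfl fun i hi => ?_
  clear hi
  induction i with
  | zero => simp
  | succ i ih =>
    rw [pow_succ' x, mul_assoc, ih, ← mul_assoc, (hc.pow_right i).eq, mul_assoc, h, ← mul_assoc, ← pow_succ]

theorem powSum_fix {x : Matrix ι ι K} {d : ℕ} (hx : x ^ d = 1) : x * powSum x d = powSum x d := by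
  have h := Finset.sum_range_succ' (fun i => x ^ i) d
  rw [Finset.sum_range_succ, hx, pow_zero] at h
  simp only [powSum, Finset.mul_sum, ← pow_succ']
  exact (add_right_cancel h).symm

/-- An element either has allowed order or its norm vanishes. -/
theorem order_or_norm (hK : Fintype.card K = 8) (hι : Fintype.card ι = 8) {H : Subgroup (GL ι K)}
    (F : Facts H) {g : GL ι K} (hg : g ∈ H) :
    orderOf g ∈ ({1, 2, 3, 4, 6, 7} : Finset ℕ) ∨ powSum (g : Matrix ι ι K) (orderOf g) = 0 := by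
  haveI : Nonempty ι := Fintype.card_pos_iff.1 (by omega)
  haveI : CharP (Matrix ι ι K) 2 := charP_of_injective_algebraMap (algebraMap K (Matrix ι ι K)).injective 2
  obtain ⟨n, hn⟩ : ∃ n, n = orderOf g := ⟨_, rfl⟩
  rw [← hn]
  have hgn : g ^ n = 1 := hn ▸ pow_orderOf_eq_one g
  have hdvd : n ∣ 2 ^ 12 * 3 ^ 4 * 7 ^ 2 * 13 := by
    rw [← F.card, hn, ← Subgroup.orderOf_mk g hg]; exact orderOf_dvd_natCard _
  have hn0 : n ≠ 0 := ne_zero_of_dvd_ne_zero (by norm_num) hdvd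
  have hroot : ∀ d k, n = k * d → orderOf (g ^ k) = d := fun d k h => by
    have hk : k ≠ 0 := fun h0 => hn0 (by simp [h, h0])
    rw [orderOf_pow_of_dvd hk (hn ▸ ⟨d, h⟩), ← hn, h, Nat.mul_div_cancel_left _ (Nat.pos_of_ne_zero hk)]
  have hmem : ∀ k, g ^ k ∈ H := fun k => pow_mem hg k
  have hone : ∀ d k, n = k * d → (g ^ k) ^ d = 1 := fun d k h => by rw [← pow_mul, ← h, hgn]
  have kill : ∀ d k, n = k * d → powSum ((g ^ k : GL ι K) : Matrix ι ι K) d = 0 →
      powSum (g : Matrix ι ι K) n = 0 := fun d k h h0 => by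
    rw [h, powSum_mul, ← Units.val_pow_eq_pow_val, h0, mul_zero]
  -- the primes 3 and 13
  by_cases h9 : 9 ∣ n
  · obtain ⟨k, hk⟩ := h9
    rw [mul_comm] at hk
    obtain ⟨-, h, -⟩ := F.three _ (hmem k) ⟨2, hone 9 k hk⟩
    refine Or.inr (kill 9 k hk (h fun h3 => ?_))
    have := hroot 9 k hk
    rw [orderOf_eq_iff (by norm_num)] at this
    exact this.2 3 (by norm_num) (by norm_num) h3
  by_cases h13 : 13 ∣ n
  · obtain ⟨k, hk⟩ := h13
    rw [mul_comm] at hk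
    obtain ⟨-, h⟩ := F.thirteen _ (hmem k) ⟨1, hone 13 k hk⟩
    refine Or.inr (kill 13 k hk (h fun h1 => ?_))
    have := hroot 13 k hk
    rw [h1, orderOf_one] at this
    omega
  have h49 : ¬ 49 ∣ n := fun ⟨k, hk⟩ => by
    rw [mul_comm] at hk
    have h := (F.seven _ (hmem k) ⟨2, hone 49 k hk⟩).1
    have := hroot 49 k hk
    rw [orderOf_eq_iff (by norm_num)] at this
    exact this.2 7 (by norm_num) (by norm_num) h
  have h16 : ¬ 16 ∣ n := fun ⟨k, hk⟩ => by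
    rw [mul_comm] at hk
    have h := (F.two _ (hmem k) ⟨4, hone 16 k hk⟩).1
    have := hroot 16 k hk
    rw [orderOf_eq_iff (by norm_num)] at this
    exact this.2 8 (by norm_num) (by norm_num) h
  have hlist : n ∈ ({1, 2, 3, 4, 6, 7, 8, 12, 14, 21, 24, 28, 42, 56, 84, 168} : Finset ℕ) := by
    have hco : n ∣ 168 := by
      have a' : Nat.Coprime 13 n := (show Nat.Prime 13 by norm_num).coprime_iff_not_dvd.2 h13
      have h1 : n ∣ 2 ^ 12 * 3 ^ 4 * 7 ^ 2 := (Nat.Coprime.symm a').dvd_of_dvd_mul_right hdvd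
      have key : ∀ i : Fin 13, ∀ j : Fin 5, ∀ l : Fin 3,
          ¬ 9 ∣ 2 ^ i.1 * 3 ^ j.1 * 7 ^ l.1 → ¬ 49 ∣ 2 ^ i.1 * 3 ^ j.1 * 7 ^ l.1 →
          ¬ 16 ∣ 2 ^ i.1 * 3 ^ j.1 * 7 ^ l.1 → 2 ^ i.1 * 3 ^ j.1 * 7 ^ l.1 ∣ 168 := by decide +kernel
      obtain ⟨x, z, hx, hz, rfl⟩ := exists_dvd_and_dvd_of_dvd_mul h1
      obtain ⟨y, w, hy, hw, rfl⟩ := exists_dvd_and_dvd_of_dvd_mul hx
      obtain ⟨i, hi, rfl⟩ := (Nat.dvd_prime_pow Nat.prime_two).1 hy
      obtain ⟨j, hj, rfl⟩ := (Nat.dvd_prime_pow Nat.prime_three).1 hw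
      obtain ⟨l, hl, rfl⟩ := (Nat.dvd_prime_pow (show Nat.Prime 7 by norm_num)).1 hz
      exact key ⟨i, by omega⟩ ⟨j, by omega⟩ ⟨l, by omega⟩ h9 h49 h16
    have : ∀ d ≤ 168, d ∣ 168 →
        d ∈ ({1, 2, 3, 4, 6, 7, 8, 12, 14, 21, 24, 28, 42, 56, 84, 168} : Finset ℕ) := by decide +kernel
    exact this n (Nat.le_of_dvd (by norm_num) hco) hco
  -- elements of order seven with fixed vectors
  by_cases h7 : 7 ∣ n ∧ n ≠ 7
  · obtain ⟨⟨k, hk⟩, hne⟩ := h7
    rw [mul_comm] at hk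
    obtain ⟨-, h⟩ := F.seven _ (hmem k) ⟨1, hone 7 k hk⟩
    have hs1 : g ^ k ≠ 1 := fun h1 => by
      have := hroot 7 k hk; rw [h1, orderOf_one] at this; omega
    rcases h hs1 with hz | ⟨E, hsum, hZ, hE, hcE⟩
    · exact Or.inr (kill 7 k hk hz)
    exfalso
    have hcomm : ∀ j, Commute ((g ^ j : GL ι K) : Matrix ι ι K) ((g ^ k : GL ι K) : Matrix ι ι K) := fun j => by
      simp only [Units.val_pow_eq_pow_val]
      exact Commute.pow_pow_self _ _ _
    have hcZ : ∀ j, Commute ((g ^ j : GL ι K) : Matrix ι ι K) (powSum ((g ^ k : GL ι K) : Matrix ι ι K) 7) :=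
      fun j => Commute.sum_right _ _ _ fun i _ => (hcomm j).pow_right i
    by_cases h2 : 2 ∣ n
    · obtain ⟨j, hj⟩ := h2
      rw [mul_comm] at hj
      have hb : ((g ^ j : GL ι K) : Matrix ι ι K) ^ 2 = 1 := by
        rw [← Units.val_pow_eq_pow_val, hone 2 j hj, Units.val_one]
      have := rank_sub_one_le_one hZ hb
        (sub_one_eq hK E hsum hE (hcZ j) (fun i => hcE i _ (hcomm j)) (Or.inl rfl) hb)
      have h1 := (F.two _ (hmem j) ⟨1, hone 2 j hj⟩).2.2.2 (hone 2 j hj) this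
      have := hroot 2 j hj
      rw [h1, orderOf_one] at this
      omega
    · have h3 : 3 ∣ n := by
        simp only [Finset.mem_insert, Finset.mem_singleton] at hlist
        omega
      obtain ⟨j, hj⟩ := h3
      rw [mul_comm] at hj
      have hb : ((g ^ j : GL ι K) : Matrix ι ι K) ^ 3 = 1 := by
        rw [← Units.val_pow_eq_pow_val, hone 3 j hj, Units.val_one]
      have hne1 : g ^ j ≠ 1 := fun h1 => by
        have := hroot 3 j hj; rw [h1, orderOf_one] at this; omega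
      exact not_order_three hι hZ ((F.three _ (hmem j) ⟨1, hone 3 j hj⟩).2.2 (hone 3 j hj) hne1)
        (sub_one_eq hK E hsum hE (hcZ j) (fun i => hcE i _ (hcomm j)) (Or.inr rfl) hb).1
  have hlist' : n ∈ ({1, 2, 3, 4, 6, 7, 8, 12, 24} : Finset ℕ) := by
    simp only [Finset.mem_insert, Finset.mem_singleton] at hlist ⊢
    omega
  simp only [Finset.mem_insert, Finset.mem_singleton] at hlist' ⊢
  rcases hlist' with h | h | h | h | h | h | h | h | h
  · exact Or.inl (by omega)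
  · exact Or.inl (by omega)
  · exact Or.inl (by omega)
  · exact Or.inl (by omega)
  · exact Or.inl (by omega)
  · exact Or.inl (by omega)
  · subst h
    refine Or.inr ?_
    rw [sum_pow_eight]
    exact (F.two _ hg ⟨3, hgn⟩).2.1
  · subst h
    refine Or.inr ?_
    obtain ⟨x, hx⟩ : ∃ x, x = (g : Matrix ι ι K) := ⟨_, rfl⟩
    have hx12 : x ^ 12 = 1 := by rw [hx, ← Units.val_pow_eq_pow_val, hgn, Units.val_one]
    have hne : g ^ 4 ≠ 1 := fun h1 => by
      have := hroot 3 4 rfl; rw [h1, orderOf_one] at this; omega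
    have he := (F.three _ (hmem 4) ⟨1, hone 3 4 rfl⟩).2.2 (hone 3 4 rfl) hne
    have hu := (F.two _ (hmem 9) ⟨2, by rw [← pow_mul, show 9 * 2 ^ 2 = 12 * 3 by norm_num, pow_mul, hgn, one_pow]⟩).2.2.1
      (by rw [← pow_mul, show 9 * 4 = 12 * 3 by norm_num, pow_mul, hgn, one_pow])
    simp only [Units.val_pow_eq_pow_val, ← hx] at he hu
    have hs3 : (x ^ 4) ^ 3 = 1 := by rw [← pow_mul, hx12]
    have hu4 : (x ^ 9) ^ 4 = 1 := by rw [← pow_mul, show 9 * 4 = 12 * 3 by norm_num, pow_mul, hx12, one_pow]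
    have := cube_mul_eq_zero hK hι hu4 hs3 (Commute.pow_pow_self x 9 4) he hu
    rw [← hx, show (12 : ℕ) = 4 * 3 by norm_num, powSum_mul,
      powSum_mul_eq (u := x ^ 9) ?_ (Commute.self_pow x 9)]
    · rw [show powSum (x ^ 9) 4 = 1 + x ^ 9 + (x ^ 9) ^ 2 + (x ^ 9) ^ 3 by simp [powSum, Finset.sum_range_succ],
        sum_four, show powSum (x ^ 4) 3 = 1 + x ^ 4 + (x ^ 4) ^ 2 by simp [powSum, Finset.sum_range_succ], this]
    · calc x * powSum (x ^ 4) 3 = (x ^ 9 * x ^ 4) * powSum (x ^ 4) 3 := by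
            rw [← pow_add, show 9 + 4 = 12 + 1 by norm_num, pow_add, hx12, one_mul, pow_one]
        _ = x ^ 9 * powSum (x ^ 4) 3 := by rw [mul_assoc, powSum_fix hs3]
  · subst h
    refine Or.inr ?_
    obtain ⟨x, hx⟩ : ∃ x, x = (g : Matrix ι ι K) := ⟨_, rfl⟩
    have hx24 : x ^ 24 = 1 := by rw [hx, ← Units.val_pow_eq_pow_val, hgn, Units.val_one]
    have hu := (F.two _ (hmem 9) ⟨3, by rw [← pow_mul, show 9 * 2 ^ 3 = 24 * 3 by norm_num, pow_mul, hgn, one_pow]⟩).2.1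
    simp only [Units.val_pow_eq_pow_val, ← hx] at hu
    have hs3 : (x ^ 8) ^ 3 = 1 := by rw [← pow_mul, hx24]
    rw [← hx, show (24 : ℕ) = 8 * 3 by norm_num, powSum_mul,
      powSum_mul_eq (u := x ^ 9) ?_ (Commute.self_pow x 9), sum_pow_eight, hu, zero_mul]
    calc x * powSum (x ^ 8) 3 = (x ^ 9 * (x ^ 8) ^ 2) * powSum (x ^ 8) 3 := by
          rw [← pow_mul, ← pow_add, show 9 + 8 * 2 = 24 + 1 by norm_num, pow_add, hx24, one_mul, pow_one]
      _ = x ^ 9 * powSum (x ^ 8) 3 := by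
          rw [mul_assoc, sq, mul_assoc, powSum_fix hs3, powSum_fix hs3]

end CfsgLib.Spectrum3D4
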