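/-
Subgroups given by polycyclic chains of generators, as lists.
-/
import Mathlib.GroupTheory.OrderOfElement
import Mathlib.GroupTheory.Coset.Card
import Mathlib.GroupTheory.Sylow
import Mathlib.Algebra.Group.Subgroup.Pointwise
import Mathlib.Data.List.OfFn

set_option autoImplicit false

namespace CfsgLib.Spectrum3D4

open scoped Pointwise

variable {G : Type*} [Group G]

/-- All products of powers of the generators, the first generator leftmost. -/
def spanG (p : ℕ) : List G → List G
  | [] => [1]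
  | g :: gs => (List.range p).flatMap fun i => (spanG p gs).map (g ^ i * ·)

/-- The conditions on a polycyclic chain. -/
def ChainG (p : ℕ) : List G → Prop
  | [] => True
  | g :: gs => g ^ p ∈ spanG p gs ∧ (∀ h ∈ gs, g * h ∈ (spanG p gs).map (· * g)) ∧
      g ∉ spanG p gs ∧ ChainG p gs

theorem exists_subgroup {p : ℕ} [hp : Fact p.Prime] [Finite G] : ∀ gs : List G, ChainG p gs →
    ∃ S : Subgroup G, (∀ x, x ∈ S ↔ x ∈ spanG p gs) ∧ S = Subgroup.closure {x | x ∈ gs} ∧
      Nat.card S = p ^ gs.length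
  | [], _ => ⟨⊥, fun x => by simp [spanG], by simp, by simp⟩
  | g :: gs, hc => by
    obtain ⟨h1, h2, h3, h4⟩ := hc
    obtain ⟨S, hS, hcl, hcard⟩ := exists_subgroup gs h4
    have hp0 : 0 < p := hp.out.pos
    have gpow : g ^ p ∈ S := (hS _).2 h1
    have hle : S ≤ S.comap (MulAut.conj g).toMonoidHom := by
      refine hcl.le.trans ((Subgroup.closure_le _).2 fun h hh => ?_)
      obtain ⟨k, hk, e⟩ := List.mem_map.1 (h2 h hh)
      show g * h * g⁻¹ ∈ S
      rw [← e, mul_inv_cancel_right]
      exact (hS _).2 hk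
    have hnorm : Subgroup.zpowers g ≤ Subgroup.normalizer (S : Set G) := by
      rw [Subgroup.zpowers_le, Subgroup.mem_normalizer_iff_map_conj_eq]
      refine Subgroup.eq_of_le_of_card_ge (Subgroup.map_le_iff_le_comap.2 hle) ?_
      exact le_of_eq (Nat.card_congr (S.equivMapOfInjective (MulAut.conj g).toMonoidHom (MulAut.conj g).injective).toEquiv)
    refine ⟨Subgroup.zpowers g ⊔ S, fun x => ?_, ?_, ?_⟩
    · rw [← SetLike.mem_coe, Subgroup.coe_mul_of_left_le_normalizer_right _ _ hnorm, Set.mem_mul]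
      simp only [spanG, List.mem_flatMap, List.mem_range, List.mem_map]
      constructor
      · rintro ⟨a, ⟨z, rfl⟩, b, hb, rfl⟩
        obtain ⟨i, hi, hiz⟩ : ∃ i : ℕ, i < p ∧ z % (p : ℤ) = i := ⟨(z % (p : ℤ)).toNat,
          by have := Int.emod_lt_of_pos z (Int.ofNat_lt.2 hp0); omega,
          (Int.toNat_of_nonneg (Int.emod_nonneg _ (by omega))).symm⟩
        refine ⟨i, hi, (g ^ p) ^ (z / (p : ℤ)) * b, (hS _).1 (mul_mem (zpow_mem gpow _) hb), ?_⟩
        show g ^ i * _ = g ^ z * b
        rw [← mul_assoc, ← zpow_natCast g p, ← zpow_mul, ← zpow_natCast g i, ← hiz, ← zpow_add,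
          Int.emod_add_mul_ediv]
      · rintro ⟨i, -, b, hb, rfl⟩
        exact ⟨g ^ i, ⟨(i : ℤ), zpow_natCast g i⟩, b, (hS _).2 hb, rfl⟩
    · rw [hcl, Subgroup.zpowers_eq_closure, ← Subgroup.closure_union]
      congr 1
      ext x
      simp
    · let f : Fin p × S → ↥(Subgroup.zpowers g ⊔ S) := fun y =>
        ⟨g ^ y.1.1 * y.2.1, mul_mem (Subgroup.mem_sup_left (Subgroup.npow_mem_zpowers g _))
          (Subgroup.mem_sup_right y.2.2)⟩
      have hinj : ∀ i j : Fin p, i.1 ≤ j.1 → ∀ a b : S, g ^ i.1 * a.1 = g ^ j.1 * b.1 → i = j := by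
        intro i j hij a b e
        by_contra hne
        have hlt : i.1 < j.1 := lt_of_le_of_ne hij fun h => hne (Fin.ext h)
        have hd : g ^ (j.1 - i.1) ∈ S := by
          have : g ^ (j.1 - i.1) = a.1 * b.1⁻¹ := by
            rw [eq_mul_inv_iff_mul_eq]
            apply mul_left_cancel (a := g ^ i.1)
            rw [← mul_assoc, ← pow_add, Nat.add_sub_cancel' hij, e]
          rw [this]; exact mul_mem a.2 (inv_mem b.2)
        have hco : Nat.Coprime (j.1 - i.1) p := Nat.Coprime.symm
          (hp.out.coprime_iff_not_dvd.2 fun hd' => by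
            have := Nat.le_of_dvd (by omega) hd'
            omega)
        have hg : g ^ (Int.gcd (j.1 - i.1 : ℕ) p : ℤ) ∈ S := by
          rw [Int.gcd_eq_gcd_ab, zpow_add, zpow_mul, zpow_mul, zpow_natCast, zpow_natCast]
          exact mul_mem (zpow_mem hd _) (zpow_mem gpow _)
        rw [Int.gcd_natCast_natCast, hco] at hg
        exact h3 ((hS _).1 (by simpa using hg))
      have hf : Function.Bijective f := by
        constructor
        · rintro ⟨i, a⟩ ⟨j, b⟩ e
          have e' : g ^ i.1 * a.1 = g ^ j.1 * b.1 := congrArg Subtype.val e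
          have hij : i = j := (le_total i.1 j.1).elim (fun h => hinj i j h a b e')
            fun h => (hinj j i h b a e'.symm).symm
          subst hij
          rw [mul_right_inj] at e'
          rw [Subtype.ext e']
        · rintro ⟨x, hx⟩
          rw [← SetLike.mem_coe, Subgroup.coe_mul_of_left_le_normalizer_right _ _ hnorm, Set.mem_mul] at hx
          obtain ⟨a, ⟨z, rfl⟩, b, hb, rfl⟩ := hx
          have hi := Int.emod_lt_of_pos z (Int.ofNat_lt.2 hp0)
          have hi0 := Int.emod_nonneg z (Int.natCast_ne_zero.2 hp.out.ne_zero)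
          refine ⟨(⟨(z % (p : ℤ)).toNat, by omega⟩, ⟨(g ^ p) ^ (z / (p : ℤ)) * b,
            mul_mem (zpow_mem gpow _) hb⟩), Subtype.ext ?_⟩
          show g ^ (z % (p : ℤ)).toNat * _ = g ^ z * b
          rw [← mul_assoc, ← zpow_natCast g p, ← zpow_mul, ← zpow_natCast g (z % (p : ℤ)).toNat,
            Int.toNat_of_nonneg hi0, ← zpow_add, Int.emod_add_mul_ediv]
      rw [← Nat.card_eq_of_bijective f hf, Nat.card_prod, Nat.card_eq_fintype_card, Fintype.card_fin, hcard,
        List.length_cons, pow_succ, mul_comm]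

/-- An element of prime power order is conjugate into a subgroup of maximal prime power order. -/
theorem exists_conj_mem [Finite G] {p k : ℕ} [Fact p.Prime] (S : Subgroup G) (hS : Nat.card S = p ^ k)
    (hmax : ¬ p ^ (k + 1) ∣ Nat.card G) {g : G} (hg : ∃ l, g ^ p ^ l = 1) :
    ∃ c : G, c * g * c⁻¹ ∈ S := by
  have hSp : IsPGroup p S := IsPGroup.of_card hS
  obtain ⟨P, hP⟩ := hSp.exists_le_sylow
  have hPS : (P : Subgroup G) = S := by
    obtain ⟨m, hm⟩ := P.2.exists_card_eq
    have hdvd : p ^ m ∣ Nat.card G := hm ▸ Subgroup.card_subgroup_dvd_card _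
    refine (Subgroup.eq_of_le_of_card_ge hP ?_).symm
    rw [hm, hS]
    refine Nat.pow_le_pow_right (Fact.out (p := p.Prime)).pos ?_
    by_contra h
    exact hmax ((pow_dvd_pow p (by omega)).trans hdvd)
  obtain ⟨l, hl⟩ := hg
  have hC : IsPGroup p (Subgroup.zpowers g) := IsPGroup.iff_orderOf.2 fun x => by
    obtain ⟨i, -, hi⟩ := (Nat.dvd_prime_pow (Fact.out (p := p.Prime))).1
      (orderOf_dvd_of_pow_eq_one hl)
    have : orderOf x ∣ p ^ i := by
      rw [← hi, ← Nat.card_zpowers g]
      exact orderOf_dvd_natCard x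
    obtain ⟨t, -, ht⟩ := (Nat.dvd_prime_pow (Fact.out (p := p.Prime))).1 this
    exact ⟨t, ht⟩
  obtain ⟨Q, hQ⟩ := hC.exists_le_sylow
  obtain ⟨c, hc⟩ := MulAction.exists_smul_eq G Q P
  refine ⟨c, ?_⟩
  rw [← hPS, ← hc, Sylow.coe_subgroup_smul, Subgroup.mem_pointwise_smul_iff_inv_smul_mem]
  simpa [MulAut.smul_def, mul_assoc] using hQ (Subgroup.mem_zpowers g)

end CfsgLib.Spectrum3D4
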