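/-
Boolean checks on packed matrices and their meaning.
-/
import Cfsg.Agent.Lib.Spectrum3D4.Bits
import Cfsg.Agent.Lib.Spectrum3D4.Span
import Cfsg.Agent.Lib.Spectrum3D4.Core
import Mathlib.LinearAlgebra.Matrix.GeneralLinearGroup.Defs

set_option autoImplicit false
set_option linter.unusedSectionVars false
set_option maxRecDepth 100000

namespace CfsgLib.Spectrum3D4

open Matrix CfsgLib.Chev CfsgLib.ChevClassical.D4

/-- `forceL L k = k L`, the entries being evaluated. -/
noncomputable def forceL {α : Type} (L : List ℕ) (k : List ℕ → α) : α :=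
  List.rec (motive := fun _ => (List ℕ → α) → α) (fun k => k [])
    (fun a _ ih k => force a fun b => ih fun t => k (b :: t)) L k

theorem forceL_eq {α : Type} : ∀ (L : List ℕ) (k : List ℕ → α), forceL L k = k L
  | [], _ => rfl
  | a :: L, k => by
    show force a (fun b => forceL L fun t => k (b :: t)) = _
    rw [force_eq, forceL_eq L]

/-- All products of a matrix with a list of matrices. -/
noncomputable def mulAll (P : List ℕ) (L : List (List ℕ)) : List (List ℕ) :=
  List.rec [] (fun h _ ih => forceL (mul P h) fun x => x :: ih) L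

theorem mulAll_eq (P : List ℕ) : ∀ L, mulAll P L = L.map (mul P)
  | [] => rfl
  | h :: L => by
    show forceL _ (fun x => x :: mulAll P L) = _
    rw [forceL_eq, mulAll_eq P L, List.map_cons]

/-- A power. -/
noncomputable def powL (g : List ℕ) (i : ℕ) : List ℕ :=
  Nat.rec one8 (fun _ ih => forceL ih fun x => mul g x) i

theorem powL_succ (g : List ℕ) (i : ℕ) : powL g (i + 1) = mul g (powL g i) := by
  show forceL (powL g i) (fun x => mul g x) = _
  rw [forceL_eq]

/-- All products of powers of a chain. -/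
noncomputable def spanL (p : ℕ) : List (List ℕ) → List (List ℕ)
  | [] => [one8]
  | g :: gs => (List.range p).flatMap fun i => forceL (powL g i) fun P => mulAll P (spanL p gs)

/-- A list satisfies a test throughout. -/
noncomputable def allL {α : Type} (f : α → Bool) (L : List α) : Bool :=
  List.rec true (fun a _ ih => f a && ih) L

theorem allL_iff {α : Type} (f : α → Bool) : ∀ L : List α, allL f L = true ↔ ∀ a ∈ L, f a = true
  | [] => by simp [allL]
  | a :: L => by
    show (f a && allL f L) = true ↔ _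
    simp [allL_iff f L]

/-- Two lists satisfy a test in each position. -/
noncomputable def allZ {α β : Type} (f : α → β → Bool) : List α → List β → Bool
  | [], _ => true
  | a :: L, [] => false
  | a :: L, b :: M => f a b && allZ f L M

theorem allZ_spec {α β : Type} (f : α → β → Bool) : ∀ (L : List α) (M : List β), allZ f L M = true →
    ∀ a ∈ L, ∃ b, f a b = true
  | [], _, _ => by simp
  | a :: L, [], h => by simp [allZ] at h
  | a :: L, b :: M, h => by
    simp only [allZ, Bool.and_eq_true] at h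
    intro x hx
    rcases List.mem_cons.1 hx with rfl | hx
    · exact ⟨b, h.1⟩
    · exact allZ_spec f L M h.2 x hx

/-- The digit of a position. -/
noncomputable def ent (M : List ℕ) (i j : ℕ) : ℕ := Nat.shiftRight (M.getD i 0) (Nat.mul (nat_lit 4) j)

/-- A digit is not zero. -/
noncomputable def nz3 (x : ℕ) : Bool := !(Nat.beq (Nat.mod x (nat_lit 8)) (nat_lit 0))

/-- A matrix is not zero. -/
noncomputable def nzM (M : List ℕ) : Bool := anyN 8 fun i => anyN 8 fun j => nz3 (ent M i j)

/-- A product of digits. -/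
noncomputable def dmul (a b : ℕ) : ℕ := rowMul (planes [b]) a

/-- Some minor of order two is not zero. -/
noncomputable def minor2 (M : List ℕ) : Bool :=
  anyN 8 fun i => anyN 8 fun j => nz3 (ent M i j) && anyN 8 fun k => anyN 8 fun l =>
    nz3 (Nat.xor (dmul (ent M i j) (ent M k l)) (dmul (ent M i l) (ent M k j)))

/-- The matrix is zero or has a minor of order two. -/
noncomputable def okRk (M : List ℕ) : Bool := forceL M fun M => meq M zero8 || minor2 M

/-- A certificate that the rank is at most `r`. -/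
noncomputable def rkCert (r : ℕ) (M : List ℕ) (c : List ℕ × List ℕ) : Bool :=
  Nat.beq c.1.length 8 && Nat.beq c.2.length 8 && meq (mul c.1 c.2) M &&
    allN 8 fun i => Nat.blt i r || Nat.beq (c.2.getD i 0) 0

/-- The sum of the powers twisted by a power of the primitive element. -/
noncomputable def twSum (k : ℕ) (s : List ℕ) (n : ℕ) : List ℕ :=
  Nat.rec zero8 (fun _ ih => forceL ih fun S => add one8 (Nat.rec (mul s S) (fun _ x => xscal x) k)) n

/-- The check of a 2-element. -/
noncomputable def check2 (u : List ℕ) : Bool :=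
  forceL (mul u u) fun u2 => forceL (mul u2 u2) fun u4 => forceL (add u one8) fun N =>
    forceL (add u2 one8) fun N2 => forceL (add u4 one8) fun N4 =>
      meq (mul u4 u4) one8 && meq (mul (mul N4 N2) N) zero8 &&
        (nzM N4 || okRk (mul N2 N)) && (nzM N2 || okRk N)

/-- The check of a 3-element. -/
noncomputable def check3 (s : List ℕ) (c : List ℕ × List ℕ) : Bool :=
  forceL (mul s s) fun s2 => forceL (mul s2 s) fun s3 =>
    meq (mul (mul s3 s3) s3) one8 && (meq s3 one8 || meq (twSum 0 s 9) zero8) &&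
      (nzM (add s3 one8) || meq s one8 || rkCert 4 (add (add one8 s) s2) c)

/-- The check of a 7-element. -/
noncomputable def check7 (s : List ℕ) (c : List (List ℕ × List ℕ)) : Bool :=
  meq (powL s 7) one8 && (meq s one8 || meq (twSum 0 s 7) zero8 ||
    (rkCert 2 (twSum 0 s 7) (c.getD 0 ([], [])) &&
      allN 6 (fun k => rkCert 1 (twSum (k + 1) s 7) (c.getD (k + 1) ([], []))) &&
      meq (add (twSum 0 s 7) (add (twSum 1 s 7) (add (twSum 2 s 7) (add (twSum 3 s 7)
        (add (twSum 4 s 7) (add (twSum 5 s 7) (twSum 6 s 7))))))) one8))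

/-- The check of a 13-element. -/
noncomputable def check13 (s : List ℕ) : Bool :=
  meq (powL s 13) one8 && (meq s one8 || meq (twSum 0 s 13) zero8)

/-- The check of a chain. -/
noncomputable def chainOK (p : ℕ) : List (List ℕ) → List (ℕ × List ℕ) → Bool
  | [], _ => true
  | g :: gs, [] => false
  | g :: gs, c :: cs => (fun L =>
      Nat.beq g.length 8 && meq (powL g p) (L.getD c.1 []) && Nat.blt c.1 L.length &&
        allZ (fun h k => Nat.blt k L.length && meq (mul g h) (mul (L.getD k []) g)) gs c.2 &&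
        allL (fun h => nzM (add g h)) L) (spanL p gs) && chainOK p gs cs

variable {K : Type*} [Field K] [CharP K 2] {ω : K}

theorem anyN_iff' {m : ℕ} {f : ℕ → Bool} : anyN m f = true ↔ ∃ i < m, f i = true := by
  induction m with
  | zero => simp [anyN]
  | succ m ih =>
    show (f m || anyN m f) = true ↔ _
    simp only [Bool.or_eq_true, ih]
    constructor
    · rintro (h | ⟨i, hi, h⟩)
      · exact ⟨m, by omega, h⟩
      · exact ⟨i, by omega, h⟩
    · rintro ⟨i, hi, h⟩
      rcases Nat.lt_succ_iff_lt_or_eq.1 hi with hi | rfl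
      · exact Or.inr ⟨i, hi, h⟩
      · exact Or.inl h

theorem dec_ne_zero (hω : ω ^ 3 = ω + 1) {x : ℕ} (h : nz3 x = true) : dec ω x 0 ≠ 0 := by
  have h2 := CharTwo.two_eq_zero (R := K)
  have w0 : ω ≠ 0 := by rintro rfl; simp at hω
  have w1 : ω ≠ 1 := by rintro rfl; exact one_ne_zero (α := K) (by linear_combination -hω)
  have w1' : 1 + ω ≠ 0 := fun e => w1 (by linear_combination e - h2)
  have hb : x.testBit 0 ∨ x.testBit 1 ∨ x.testBit 2 := by
    by_contra hc
    simp only [Bool.not_eq_true, not_or] at hc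
    have : x % 8 = 0 := by
      simp only [Nat.testBit_eq_decide_div_mod_eq, decide_eq_false_iff_not] at hc
      omega
    rw [nz3, show Nat.mod x (nat_lit 8) = 0 from this] at h
    simp at h
  intro hd
  simp only [dec, mul_zero, zero_add] at hd
  rcases Bool.eq_false_or_eq_true (x.testBit 0) with a | a <;>
    rcases Bool.eq_false_or_eq_true (x.testBit 1) with b | b <;>
    rcases Bool.eq_false_or_eq_true (x.testBit 2) with c | c <;>
    simp only [a, b, c, if_true, Bool.false_eq_true, if_false, add_zero, zero_add, or_false, or_true] at hd hb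
  · exact w0 (by linear_combination -hω + (ω - 1) * hd)
  · exact w1' hd
  · have : (ω + 1) ^ 2 = 0 := by linear_combination hd + ω * h2
    exact w1' (by rw [add_comm]; exact pow_eq_zero_iff two_ne_zero |>.1 this)
  · exact one_ne_zero hd
  · have : ω * (1 + ω) = 0 := by linear_combination hd
    rcases mul_eq_zero.1 this with e | e
    · exact w0 e
    · exact w1' e
  · exact w0 hd
  · exact w0 (pow_eq_zero_iff two_ne_zero |>.1 hd)

theorem dec_shift (ω : K) (r j : ℕ) : dec ω (r >>> (4 * j)) 0 = dec ω r j := by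
  simp [dec, Nat.testBit_shiftRight]

theorem dec_ent (i : I) (k : I) (M : List ℕ) :
    dec ω (ent M (code i).1 (code k).1) 0 = mat ω M i k := dec_shift _ _ _

theorem exists_code {i : ℕ} (h : i < 8) : ∃ a : I, (code a).1 = i :=
  ⟨codeEquiv.symm ⟨i, h⟩, congrArg Fin.val (codeEquiv.apply_symm_apply ⟨i, h⟩)⟩

theorem nzM_spec (hω : ω ^ 3 = ω + 1) {M : List ℕ} (h : nzM M = true) : mat ω M ≠ 0 := by
  simp only [nzM, anyN_iff'] at h
  obtain ⟨i, hi, j, hj, h⟩ := h
  obtain ⟨a, rfl⟩ := exists_code hi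
  obtain ⟨b, rfl⟩ := exists_code hj
  intro h0
  exact dec_ne_zero hω h (by rw [dec_ent, h0]; rfl)

theorem dec_dmul (hω : ω ^ 3 = ω + 1) (a b : ℕ) : dec ω (dmul a b) 0 = dec ω a 0 * dec ω b 0 := by
  rw [dmul, dec_rowMul hω (by omega)]
  simp

theorem okRk_spec (hω : ω ^ 3 = ω + 1) {M : List ℕ} (h : okRk M = true) (hr : (mat ω M).rank ≤ 1) :
    mat ω M = 0 := by
  rw [okRk, forceL_eq] at h
  rcases Bool.or_eq_true _ _ ▸ h with h | h
  · rw [(meq_iff _ _).1 h, mat_zero]
  simp only [minor2, anyN_iff', Bool.and_eq_true] at h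
  obtain ⟨i, hi, j, hj, -, k, hk, l, hl, h⟩ := h
  obtain ⟨a, rfl⟩ := exists_code hi
  obtain ⟨b, rfl⟩ := exists_code hj
  obtain ⟨c, rfl⟩ := exists_code hk
  obtain ⟨d, rfl⟩ := exists_code hl
  refine absurd ?_ (dec_ne_zero hω h)
  show dec ω (_ ^^^ _) 0 = 0
  rw [dec_xor, dec_dmul hω, dec_dmul hω, dec_ent, dec_ent, dec_ent, dec_ent, minors_of_rank_le_one hr,
    CharTwo.add_self_eq_zero]

theorem rkCert_spec (hω : ω ^ 3 = ω + 1) {r : ℕ} {M : List ℕ} {c : List ℕ × List ℕ}
    (h : rkCert r M c = true) : (mat ω M).rank ≤ r := by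
  classical
  simp only [rkCert, Bool.and_eq_true, allN_iff, meq_iff, Bool.or_eq_true, Nat.blt, Nat.ble_eq] at h
  obtain ⟨⟨⟨hA, hB⟩, rfl⟩, hz⟩ := h
  rw [mat_mul hω (Nat.eq_of_beq_eq_true hA) (Nat.eq_of_beq_eq_true hB)]
  refine (Matrix.rank_mul_le_right _ _).trans ?_
  have e : mat ω c.2 = Matrix.diagonal (fun i : I => if (code i).1 < r then (1 : K) else 0) * mat ω c.2 := by
    ext i k
    rw [Matrix.diagonal_mul]
    split_ifs with hi
    · rw [one_mul]
    · rw [zero_mul]
      rcases hz (code i).1 (code i).2 with h | h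
      · exact absurd h hi
      · show dec ω (c.2.getD (code i).1 0) (code k).1 = 0
        rw [Nat.eq_of_beq_eq_true h, dec_zero]
  rw [e]
  refine (Matrix.rank_mul_le_left _ _).trans ?_
  rw [Matrix.rank_diagonal, Fintype.card_subtype]
  calc _ ≤ (Finset.range r).card := Finset.card_le_card_of_injOn (fun i : I => (code i).1)
        (fun i hi => by
          simp only [Finset.coe_filter, Finset.mem_univ, true_and, Set.mem_setOf_eq, ne_eq,
            ite_eq_right_iff, one_ne_zero, imp_false, not_not] at hi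
          simpa using hi)
        (fun a _ b _ hab => codeEquiv.injective (Fin.ext hab))
    _ = r := Finset.card_range r

theorem ok_powL {g : List ℕ} (hg : Ok g) : ∀ i, Ok (powL g i)
  | 0 => ok_one8
  | i + 1 => by rw [powL_succ]; exact hg.mul _

theorem mat_powL (hω : ω ^ 3 = ω + 1) {g : List ℕ} (hg : Ok g) : ∀ i, mat ω (powL g i) = mat ω g ^ i
  | 0 => by rw [pow_zero]; exact mat_one ω
  | i + 1 => by rw [powL_succ, mat_mul hω hg (ok_powL hg i), mat_powL hω hg i, pow_succ']

/-- The twisted sum of powers as a matrix. -/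
noncomputable def twS (ω : K) (k : ℕ) (x : Matrix I I K) (n : ℕ) : Matrix I I K :=
  ∑ i ∈ Finset.range n, (ω ^ k) ^ i • x ^ i

theorem ok_twSum {s : List ℕ} (hs : Ok s) (k : ℕ) : ∀ n, Ok (twSum k s n)
  | 0 => ok_zero8
  | n + 1 => by
    show Ok (forceL (twSum k s n) _)
    rw [forceL_eq]
    have key : ∀ j, Ok (Nat.rec (mul s (twSum k s n)) (fun _ x => xscal x) j : List ℕ) := fun j => by
      induction j with
      | zero => exact hs.mul _
      | succ j ih => exact ih.xscal
    exact ok_one8.add (key k)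

theorem mat_twSum (hω : ω ^ 3 = ω + 1) {s : List ℕ} (hs : Ok s) (k : ℕ) :
    ∀ n, mat ω (twSum k s n) = twS ω k (mat ω s) n
  | 0 => by simp [twS, twSum, mat_zero]
  | n + 1 => by
    have key : ∀ j, Ok (Nat.rec (mul s (twSum k s n)) (fun _ x => xscal x) j : List ℕ) ∧
        mat ω (Nat.rec (mul s (twSum k s n)) (fun _ x => xscal x) j : List ℕ) =
          ω ^ j • (mat ω s * twS ω k (mat ω s) n) := fun j => by
      induction j with
      | zero => exact ⟨hs.mul _, by rw [pow_zero, one_smul, ← mat_twSum hω hs k n]; exact mat_mul hω hs (ok_twSum hs k n)⟩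
      | succ j ih => exact ⟨ih.1.xscal, by
          show mat ω (xscal _) = _
          rw [mat_xscal hω ih.1, ih.2, smul_smul, ← pow_succ']⟩
    show mat ω (forceL (twSum k s n) _) = _
    rw [forceL_eq, mat_add ω ok_one8 (key k).1, mat_one, (key k).2, twS, twS, Finset.sum_range_succ',
      Finset.mul_sum, Finset.smul_sum, add_comm]
    congr 1
    · refine Finset.sum_congr rfl fun i _ => ?_
      rw [mul_smul_comm, smul_smul, ← pow_succ', ← pow_succ']
    · simp

theorem twS_zero (x : Matrix I I K) (n : ℕ) : twS ω 0 x n = powSum x n := by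
  simp [twS, powSum]

theorem check2_spec [CharP (Matrix I I K) 2] (hω : ω ^ 3 = ω + 1) {u : List ℕ} (hu : Ok u) {v : GL I K}
    (hv : (v : Matrix I I K) = mat ω u) (h : check2 u = true) :
    v ^ 8 = 1 ∧ ((v : Matrix I I K) - 1) ^ 7 = 0 ∧
    (v ^ 4 = 1 → (((v : Matrix I I K) - 1) ^ 3).rank ≤ 1 → ((v : Matrix I I K) - 1) ^ 3 = 0) ∧
    (v ^ 2 = 1 → ((v : Matrix I I K) - 1).rank ≤ 1 → v = 1) := by
  simp only [check2, forceL_eq, Bool.and_eq_true, Bool.or_eq_true, meq_iff] at h
  obtain ⟨⟨⟨h8, h7⟩, h4⟩, h2'⟩ := h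
  have hu2 := hu.mul (B := u)
  have hu4 := hu2.mul (B := mul u u)
  have e2 : mat ω (mul u u) = (v : Matrix I I K) ^ 2 := by rw [mat_mul hω hu hu, hv, sq]
  have e4 : mat ω (mul (mul u u) (mul u u)) = (v : Matrix I I K) ^ 4 := by
    rw [mat_mul hω hu2 hu2, e2, ← pow_add]
  have N1 : mat ω (add u one8) = (v : Matrix I I K) - 1 := by
    rw [mat_add ω hu ok_one8, mat_one, hv, CharTwo.sub_eq_add]
  have h2 : (2 : Matrix I I K) = 0 := CharTwo.two_eq_zero
  have q2 : ((v : Matrix I I K) - 1) ^ 2 = (v : Matrix I I K) ^ 2 - 1 := by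
    have : ((v : Matrix I I K) - 1) ^ 2 = (v : Matrix I I K) ^ 2 - 1 + 2 * (1 - (v : Matrix I I K)) := by
      noncomm_ring
    rw [this, h2, zero_mul, add_zero]
  have N2 : mat ω (add (mul u u) one8) = ((v : Matrix I I K) - 1) ^ 2 := by
    rw [mat_add ω hu2 ok_one8, mat_one, e2, q2, CharTwo.sub_eq_add]
  have N4 : mat ω (add (mul (mul u u) (mul u u)) one8) = ((v : Matrix I I K) - 1) ^ 4 := by
    have q4 : ((v : Matrix I I K) - 1) ^ 4 = (v : Matrix I I K) ^ 4 - 1 := by
      rw [pow_mul _ 2 2, pow_mul _ 2 2, q2, show ((v : Matrix I I K) ^ 2 - 1) ^ 2 =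
        ((v : Matrix I I K) ^ 2) ^ 2 - 1 + 2 * (1 - (v : Matrix I I K) ^ 2) by noncomm_ring, h2, zero_mul, add_zero]
    rw [mat_add ω hu4 ok_one8, mat_one, e4, q4, CharTwo.sub_eq_add]
  refine ⟨?_, ?_, ?_, ?_⟩
  · refine Units.ext ?_
    rw [Units.val_pow_eq_pow_val, Units.val_one, ← mat_one ω, ← h8, mat_mul hω hu4 hu4, e4, ← pow_add]
  · rw [← mat_zero ω, ← h7, mat_mul hω ((hu4.add ok_one8).mul _) (hu.add ok_one8),
      mat_mul hω (hu4.add ok_one8) (hu2.add ok_one8), N4, N2, N1, ← pow_add, ← pow_succ]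
  · intro hv4 hr
    have hv4' : (v : Matrix I I K) ^ 4 = 1 := by rw [← Units.val_pow_eq_pow_val, hv4, Units.val_one]
    rcases h4 with h4 | h4
    · exfalso
      refine nzM_spec hω h4 ?_
      rw [mat_add ω hu4 ok_one8, mat_one, e4, hv4', CharTwo.add_self_eq_zero]
    · have e : mat ω (mul (add (mul u u) one8) (add u one8)) = ((v : Matrix I I K) - 1) ^ 3 := by
        rw [mat_mul hω (hu2.add ok_one8) (hu.add ok_one8), N2, N1, ← pow_succ]
      rw [← e] at hr ⊢
      exact okRk_spec hω h4 hr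
  · intro hv2 hr
    rcases h2' with h2' | h2'
    · exfalso
      refine nzM_spec hω h2' ?_
      rw [mat_add ω hu2 ok_one8, mat_one, e2, ← Units.val_pow_eq_pow_val, hv2, Units.val_one,
        CharTwo.add_self_eq_zero]
    · rw [← N1] at hr
      have := okRk_spec hω h2' hr
      rw [N1, sub_eq_zero] at this
      exact Units.ext this

theorem check3_spec (hω : ω ^ 3 = ω + 1) {s : List ℕ} {c : List ℕ × List ℕ} (hs : Ok s) {v : GL I K}
    (hv : (v : Matrix I I K) = mat ω s) (h : check3 s c = true) :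
    v ^ 9 = 1 ∧ (v ^ 3 ≠ 1 → powSum (v : Matrix I I K) 9 = 0) ∧
    (v ^ 3 = 1 → v ≠ 1 → (1 + (v : Matrix I I K) + (v : Matrix I I K) ^ 2).rank ≤ 4) := by
  simp only [check3, forceL_eq, Bool.and_eq_true, Bool.or_eq_true, meq_iff] at h
  obtain ⟨⟨h9, h3⟩, he⟩ := h
  have s2 := hs.mul (B := s)
  have s3 := s2.mul (B := s)
  have e2 : mat ω (mul s s) = (v : Matrix I I K) ^ 2 := by rw [mat_mul hω hs hs, hv, sq]
  have e3 : mat ω (mul (mul s s) s) = (v : Matrix I I K) ^ 3 := by
    rw [mat_mul hω s2 hs, e2, ← hv, ← pow_succ]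
  refine ⟨?_, fun hne => ?_, fun h1 hne => ?_⟩
  · refine Units.ext ?_
    rw [Units.val_pow_eq_pow_val, Units.val_one, ← mat_one ω, ← h9, mat_mul hω (s3.mul _) s3,
      mat_mul hω s3 s3, e3, ← pow_add, ← pow_add]
  · rcases h3 with h3 | h3
    · refine absurd (Units.ext ?_) hne
      rw [Units.val_pow_eq_pow_val, ← e3, h3, mat_one, Units.val_one]
    · rw [hv, ← twS_zero (ω := ω), ← mat_twSum hω hs, h3, mat_zero]
  · rcases he with (he | he) | he
    · exfalso
      refine nzM_spec hω he ?_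
      rw [mat_add ω s3 ok_one8, e3, mat_one, ← Units.val_pow_eq_pow_val, h1, Units.val_one,
        CharTwo.add_self_eq_zero]
    · exact absurd (Units.ext (by rw [hv, he, mat_one, Units.val_one])) hne
    · have := rkCert_spec hω he
      rwa [mat_add ω (ok_one8.add hs) s2, mat_add ω ok_one8 hs, mat_one, e2, ← hv] at this

theorem check7_spec (hω : ω ^ 3 = ω + 1) {s : List ℕ} {c : List (List ℕ × List ℕ)} (hs : Ok s) {v : GL I K}
    (hv : (v : Matrix I I K) = mat ω s) (h : check7 s c = true) :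
    v ^ 7 = 1 ∧ (v ≠ 1 → SevenData (v : Matrix I I K)) := by
  simp only [check7, Bool.and_eq_true, Bool.or_eq_true, meq_iff, allN_iff] at h
  obtain ⟨h7, h⟩ := h
  refine ⟨Units.ext ?_, fun hne => ?_⟩
  · rw [Units.val_pow_eq_pow_val, hv, ← mat_powL hω hs, h7, mat_one, Units.val_one]
  rcases h with (h | h) | ⟨⟨hZ, hE⟩, hsum⟩
  · exact absurd (Units.ext (by rw [hv, h, mat_one, Units.val_one])) hne
  · left
    rw [hv, ← twS_zero (ω := ω), ← mat_twSum hω hs, h, mat_zero]
  right
  have hk := fun k => ok_twSum hs k 7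
  have hm : ∀ k, twS ω k (v : Matrix I I K) 7 = mat ω (twSum k s 7) := fun k => by
    rw [hv]; exact (mat_twSum hω hs k 7).symm
  refine ⟨fun k => twS ω (k.1 + 1) (v : Matrix I I K) 7, ?_, ?_, fun k => ?_, fun k b hb => ?_⟩
  · rw [← twS_zero (ω := ω), Fin.sum_univ_six]
    have := congrArg (mat ω) hsum
    rw [mat_one, mat_add ω (hk 0) ((hk 1).add ((hk 2).add ((hk 3).add ((hk 4).add ((hk 5).add (hk 6)))))),
      mat_add ω (hk 1) ((hk 2).add ((hk 3).add ((hk 4).add ((hk 5).add (hk 6))))),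
      mat_add ω (hk 2) ((hk 3).add ((hk 4).add ((hk 5).add (hk 6)))),
      mat_add ω (hk 3) ((hk 4).add ((hk 5).add (hk 6))),
      mat_add ω (hk 4) ((hk 5).add (hk 6)), mat_add ω (hk 5) (hk 6), ← hm, ← hm, ← hm, ← hm, ← hm, ← hm, ← hm] at this
    rw [← this]
    show twS ω 0 _ 7 + (twS ω 1 (v : Matrix I I K) 7 + twS ω 2 (v : Matrix I I K) 7 + twS ω 3 (v : Matrix I I K) 7 +
      twS ω 4 (v : Matrix I I K) 7 + twS ω 5 (v : Matrix I I K) 7 + twS ω 6 (v : Matrix I I K) 7) = _
    abel
  · rw [← twS_zero (ω := ω), hm]; exact rkCert_spec hω hZ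
  · show (twS ω (k.1 + 1) (v : Matrix I I K) 7).rank ≤ 1
    rw [hm]; exact rkCert_spec hω (hE k.1 k.2)
  · exact Commute.sum_right _ _ _ fun i _ => (hb.pow_right i).smul_right _

theorem check13_spec (hω : ω ^ 3 = ω + 1) {s : List ℕ} (hs : Ok s) {v : GL I K}
    (hv : (v : Matrix I I K) = mat ω s) (h : check13 s = true) :
    v ^ 13 = 1 ∧ (v ≠ 1 → powSum (v : Matrix I I K) 13 = 0) := by
  simp only [check13, Bool.and_eq_true, Bool.or_eq_true, meq_iff] at h
  obtain ⟨h13, h⟩ := h
  refine ⟨Units.ext ?_, fun hne => ?_⟩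
  · rw [Units.val_pow_eq_pow_val, hv, ← mat_powL hω hs, h13, mat_one, Units.val_one]
  rcases h with h | h
  · exact absurd (Units.ext (by rw [hv, h, mat_one, Units.val_one])) hne
  · rw [hv, ← twS_zero (ω := ω), ← mat_twSum hω hs, h, mat_zero]

theorem ok_spanL {p : ℕ} : ∀ {gs : List (List ℕ)}, (∀ g ∈ gs, Ok g) → ∀ x ∈ spanL p gs, Ok x
  | [], _, x, hx => by simp [spanL] at hx; subst hx; exact ok_one8
  | g :: gs, hg, x, hx => by
    simp only [spanL, forceL_eq, mulAll_eq, List.mem_flatMap, List.mem_map] at hx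
    obtain ⟨i, -, h, -, rfl⟩ := hx
    exact (ok_powL (hg g List.mem_cons_self) i).mul _

theorem span_map (hω : ω ^ 3 = ω + 1) (p : ℕ) : ∀ (us : List (GL I K)) (gs : List (List ℕ)),
    List.Forall₂ (fun (u : GL I K) g => Ok g ∧ (u : Matrix I I K) = mat ω g) us gs →
    List.Forall₂ (fun (u : GL I K) g => Ok g ∧ (u : Matrix I I K) = mat ω g) (spanG p us) (spanL p gs)
  | [], [], _ => by simp [spanG, spanL, ok_one8, mat_one]
  | u :: us, g :: gs, h => by
    obtain ⟨⟨hg, hu⟩, h'⟩ := List.forall₂_cons.1 h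
    have ih := span_map hω p us gs h'
    simp only [spanG, spanL, forceL_eq, mulAll_eq]
    induction List.range p with
    | nil => simp
    | cons i R ihR =>
      rw [List.flatMap_cons, List.flatMap_cons]
      refine List.rel_append ?_ ihR
      rw [List.forall₂_map_left_iff, List.forall₂_map_right_iff]
      refine ih.imp fun {a b} hab => ⟨(ok_powL hg i).mul _, ?_⟩
      rw [Units.val_mul, Units.val_pow_eq_pow_val, mat_mul hω (ok_powL hg i) hab.1, mat_powL hω hg, hu, hab.2]

theorem exists_of_forall₂ {α β : Type*} {R : α → β → Prop} : ∀ {l : List α} {m : List β},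
    List.Forall₂ R l m → ∀ a ∈ l, ∃ b ∈ m, R a b
  | _, _, .cons h t, x, hx => by
    rcases List.mem_cons.1 hx with rfl | hx
    · exact ⟨_, List.mem_cons_self, h⟩
    · obtain ⟨b, hb, hr⟩ := exists_of_forall₂ t x hx
      exact ⟨b, List.mem_cons_of_mem _ hb, hr⟩

theorem chainOK_spec (hω : ω ^ 3 = ω + 1) (p : ℕ) : ∀ (us : List (GL I K)) (gs : List (List ℕ))
    (cs : List (ℕ × List ℕ)),
    List.Forall₂ (fun (u : GL I K) g => Ok g ∧ (u : Matrix I I K) = mat ω g) us gs →
    chainOK p gs cs = true → ChainG p us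
  | [], [], _, _, _ => trivial
  | u :: us, g :: gs, [], _, h => by simp [chainOK] at h
  | u :: us, g :: gs, c :: cs, hf, h => by
    obtain ⟨⟨hg, hu⟩, h'⟩ := List.forall₂_cons.1 hf
    simp only [chainOK, Bool.and_eq_true, meq_iff, allL_iff, Nat.blt, Nat.ble_eq] at h
    obtain ⟨⟨⟨⟨⟨-, hp⟩, hc⟩, hz⟩, hn⟩, hrest⟩ := h
    have hs := span_map hω p us gs h'
    have hlen := hs.length_eq
    have get : ∀ k, k + 1 ≤ (spanL p gs).length → ∃ v ∈ spanG p us,
        Ok ((spanL p gs).getD k []) ∧ (v : Matrix I I K) = mat ω ((spanL p gs).getD k []) := fun k hk => by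
      have := hs.get (i := k) (by omega) (by omega)
      rw [List.getD_eq_getElem _ _ (by omega)]
      exact ⟨_, List.getElem_mem (by omega), this⟩
    refine ⟨?_, fun x hx => ?_, fun hmem => ?_, chainOK_spec hω p us gs cs h' hrest⟩
    · obtain ⟨v, hv, -, hv'⟩ := get c.1 hc
      have : u ^ p = v := Units.ext (by rw [Units.val_pow_eq_pow_val, hu, ← mat_powL hω hg, hp, hv'])
      rwa [this]
    · obtain ⟨y, hy, hyo, hym⟩ := exists_of_forall₂ h' x hx
      obtain ⟨k, hk⟩ := allZ_spec _ _ _ hz y hy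
      simp only [Bool.and_eq_true, meq_iff, Nat.blt, Nat.ble_eq] at hk
      obtain ⟨v, hv, hvo, hv'⟩ := get k hk.1
      refine List.mem_map.2 ⟨v, hv, Units.ext ?_⟩
      rw [Units.val_mul, Units.val_mul, hv', hu, hym, ← mat_mul hω hvo hg, ← hk.2, mat_mul hω hg hyo]
    · obtain ⟨y, hy, hyo, hym⟩ := exists_of_forall₂ hs u hmem
      refine nzM_spec hω (hn y hy) ?_
      rw [mat_add ω hg hyo, ← hu, hym, CharTwo.add_self_eq_zero]

end CfsgLib.Spectrum3D4
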