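/-
The evaluated checks.
-/
import Cfsg.Agent.Lib.Spectrum3D4.Check
import Cfsg.Agent.Lib.Spectrum3D4.Data

set_option autoImplicit false
set_option maxRecDepth 100000

namespace CfsgLib.Spectrum3D4

open Data CfsgLib.Chev

/-- The matrix of a word. -/
noncomputable def evalL (w : List ℕ) : List ℕ :=
  List.rec one8 (fun x _ ih => forceL ih fun r => mul (genTab.getD x []) r) w

/-- The words give the matrices. -/
noncomputable def wordsOK (ws : List (List ℕ)) (ms : List (List ℕ)) : Bool :=
  Nat.beq ws.length ms.length &&
    allZ (fun w m => allL (fun x => Nat.blt x 8) w && Nat.beq m.length 8 && meq (evalL w) m) ws ms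

theorem gens_invol : allL (fun g => Nat.beq g.length 8 && meq (mul g g) one8) genTab = true := by decide +kernel

theorem words_ok2 : wordsOK words2 chain2 = true := by decide +kernel
theorem words_ok3 : wordsOK words3 chain3 = true := by decide +kernel
theorem words_ok7 : wordsOK words7 chain7 = true := by decide +kernel
theorem words_ok13 : wordsOK words13 chain13 = true := by decide +kernel

theorem chain_ok3 : chainOK 3 chain3 rels3 = true := by decide +kernel
theorem chain_ok7 : chainOK 7 chain7 rels7 = true := by decide +kernel
theorem chain_ok13 : chainOK 13 chain13 rels13 = true := by decide +kernel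

theorem all_check3 : allZ check3 (spanL 3 chain3) certs3 = true := by decide +kernel
theorem all_check7 : allZ check7 (spanL 7 chain7) certs7 = true := by decide +kernel
theorem all_check13 : allL check13 (spanL 13 chain13) = true := by decide +kernel

theorem wit_ok : allL (fun e => allL (fun x => Nat.blt x 8) e.2.1 && meq (evalL e.2.1) e.2.2 &&
    meq (powL e.2.2 e.1) one8 && allN e.1 (fun i => Nat.beq i 0 || nzM (add (powL e.2.2 i) one8))) wit = true := by
  decide +kernel

end CfsgLib.Spectrum3D4
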