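/-
The evaluated checks of the Sylow 2-subgroup.
-/
import Cfsg.Agent.Lib.Spectrum3D4.Check
import Cfsg.Agent.Lib.Spectrum3D4.Data

set_option autoImplicit false
set_option maxRecDepth 100000

namespace CfsgLib.Spectrum3D4

open Data CfsgLib.Chev

theorem chain_ok2 : chainOK 2 chain2 rels2 = true := by decide +kernel

theorem all_check2 : allL check2 (spanL 2 chain2) = true := by decide +kernel

end CfsgLib.Spectrum3D4
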