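/-
The eight dimensional model of the triality group over two.
-/
import Cfsg.Agent.Lib.Spectrum3D4.Eval
import Cfsg.Agent.Lib.Spectrum3D4.EvalTwo
import Cfsg.Agent.Lib.OrthAut.D4Model
import Cfsg.Agent.Lib.Chev.Twist.OrderD4
import Mathlib.LinearAlgebra.Matrix.Determinant.Basic

set_option autoImplicit false
set_option linter.unusedSectionVars false
set_option maxRecDepth 100000
set_option maxHeartbeats 1600000

namespace CfsgLib.Spectrum3D4

open Cfsg Cfsg.Lie Matrix Data CfsgLib.Chev CfsgLib.ChevClassical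
open CfsgLib.ChevClassical.D4 (I code)

/-- A root element of the model with parameter a power of the primitive element. -/
noncomputable def yP (r : Fin chevD4.nroots) (k : ℕ) : List ℕ :=
  (D4.tab.A r).foldr (fun e M => add ((List.range 8).map fun i =>
    if i = (code e.2.1).val then xmul^[k] (16 ^ (code e.2.2.1).val) else 0) M) one8

variable {K : Type*} [Field K] [CharP K 2] {ω : K}

theorem pow_sixteen_bits : ∀ a b : Fin 8, ∀ c : Fin 3,
    (16 ^ a.1).testBit (4 * b.1 + c.1) = decide (a = b ∧ c.1 = 0) := by decide +kernel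

theorem dec_iterate (hω : ω ^ 3 = ω + 1) (r : ℕ) {j : ℕ} (hj : j < 8) :
    ∀ k, dec ω (xmul^[k] r) j = ω ^ k * dec ω r j
  | 0 => by simp
  | k + 1 => by rw [Function.iterate_succ_apply', dec_xmul hω _ hj, dec_iterate hω r hj k, pow_succ', mul_assoc]

theorem mat_single (hω : ω ^ 3 = ω + 1) (p q : I) (k : ℕ) :
    mat ω ((List.range 8).map fun i => if i = (code p).val then xmul^[k] (16 ^ (code q).val) else 0) =
      Matrix.single p q (ω ^ k) := by
  ext a b
  simp only [mat]
  rw [List.getD_eq_getElem _ _ (by simp), List.getElem_map, List.getElem_range, Matrix.single_apply]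
  by_cases h : a = p
  · subst h
    rw [if_pos rfl, dec_iterate hω _ (code b).2]
    have h0 := pow_sixteen_bits (code q) (code b) 0
    have h1 := pow_sixteen_bits (code q) (code b) 1
    have h2 := pow_sixteen_bits (code q) (code b) 2
    simp only [Fin.val_zero, Fin.val_one, Fin.val_two, add_zero] at h0 h1 h2
    simp only [dec, h0, h1, h2]
    by_cases hb : q = b
    · subst hb; simp
    · have : code q ≠ code b := fun e => hb (codeEquiv.injective e)
      simp [hb, this]
  · have : ¬ (code a).val = (code p).val := fun e => h (codeEquiv.injective (Fin.ext e))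
    rw [if_neg this, dec_zero, if_neg (fun e => h e.1.symm)]

theorem tab_shape : ∀ r : Fin chevD4.nroots, ∀ e ∈ D4.tab.A r, e.1 = 1 ∧ (e.2.2.2 = 1 ∨ e.2.2.2 = -1) := by
  decide +kernel

theorem mat_yP (hω : ω ^ 3 = ω + 1) (r : Fin chevD4.nroots) (k : ℕ) :
    Ok (yP r k) ∧ mat ω (yP r k) = (Tab.y D4.ok K r (ω ^ k) : Matrix I I K) := by
  rw [Tab.y_val, Tab.Y, eval_append, Tab.eval_one D4.ok, yP]
  have hs := tab_shape r
  generalize D4.tab.A r = L at hs ⊢
  induction L with
  | nil => exact ⟨ok_one8, by simp [mat_one]⟩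
  | cons e L ih =>
    obtain ⟨ho, hm⟩ := ih fun a ha => hs a (List.mem_cons_of_mem _ ha)
    obtain ⟨hd, hc⟩ := hs e List.mem_cons_self
    have hl : Ok ((List.range 8).map fun i => if i = (code e.2.1).val then xmul^[k] (16 ^ (code e.2.2.1).val) else 0) := by
      simp [Ok]
    rw [List.foldr_cons]
    refine ⟨hl.add ho, ?_⟩
    rw [mat_add ω hl ho, mat_single hω, hm, eval_cons, add_left_comm]
    congr 2
    congr 1
    rw [hd, pow_one]
    rcases hc with h | h <;> simp [h, CharTwo.neg_eq]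

/-- The image of a twisted generator with parameter `ω ^ k`. -/
noncomputable def xP (neg : Bool) (k : ℕ) : List ℕ :=
  bif neg then mul (mul (yP ⟨5, by decide⟩ k) (yP ⟨10, by decide⟩ (2 * k))) (yP ⟨11, by decide⟩ (4 * k))
  else mul (mul (yP ⟨18, by decide⟩ k) (yP ⟨13, by decide⟩ (2 * k))) (yP ⟨12, by decide⟩ (4 * k))

/-- The words of the generators with parameter `ω ^ k`. -/
def xW : Bool → List (List ℕ)
  | false => [[1], [2], [3], [1, 2], [2, 3], [1, 2, 3], [1, 3]]
  | true => [[5], [6], [7], [5, 6], [6, 7], [5, 6, 7], [5, 7]]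

theorem xP_words : allN 7 (fun k => meq (evalL ((xW false).getD k [])) (xP false k) &&
    meq (evalL ((xW true).getD k [])) (xP true k)) = true := by decide +kernel

theorem yP_words : (meq (yP ⟨14, by decide⟩ 0) (genTab.getD 0 []) &&
    meq (yP ⟨9, by decide⟩ 0) (genTab.getD 4 [])) = true := by decide +kernel

theorem genTab_xP : (meq (xP false 0) (genTab.getD 1 []) && meq (xP false 1) (genTab.getD 2 []) &&
    meq (xP false 2) (genTab.getD 3 []) && meq (xP true 0) (genTab.getD 5 []) &&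
    meq (xP true 1) (genTab.getD 6 []) && meq (xP true 2) (genTab.getD 7 [])) = true := by decide +kernel

theorem gen_ok (x : ℕ) (hx : x < 8) : Ok (genTab.getD x []) ∧ mul (genTab.getD x []) (genTab.getD x []) = one8 := by
  have h := (allL_iff _ _).1 gens_invol _ (by
    exact List.getElem_mem (show x < genTab.length from hx))
  simp only [Bool.and_eq_true, meq_iff] at h
  rw [List.getD_eq_getElem _ _ (show x < genTab.length from hx)]
  exact ⟨Nat.eq_of_beq_eq_true h.1, h.2⟩

/-- The generators of the model. -/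
noncomputable def gU (hω : ω ^ 3 = ω + 1) (x : Fin 8) : GL I K where
  val := mat ω (genTab.getD x.1 [])
  inv := mat ω (genTab.getD x.1 [])
  val_inv := by rw [← mat_mul hω (gen_ok x.1 x.2).1 (gen_ok x.1 x.2).1, (gen_ok x.1 x.2).2, mat_one]
  inv_val := by rw [← mat_mul hω (gen_ok x.1 x.2).1 (gen_ok x.1 x.2).1, (gen_ok x.1 x.2).2, mat_one]

/-- The model group. -/
noncomputable def model (hω : ω ^ 3 = ω + 1) : Subgroup (GL I K) := Subgroup.closure (Set.range (gU hω))

theorem word_mem (hω : ω ^ 3 = ω + 1) : ∀ w : List ℕ, allL (fun x => Nat.blt x 8) w = true →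
    Ok (evalL w) ∧ ∃ g ∈ model hω, (g : Matrix I I K) = mat ω (evalL w)
  | [], _ => ⟨ok_one8, 1, one_mem _, by rw [Units.val_one]; exact (mat_one ω).symm⟩
  | x :: w, h => by
    have h' := (allL_iff _ _).1 h
    obtain ⟨ho, g, hg, hm⟩ := word_mem hω w ((allL_iff _ _).2 fun a ha => h' a (List.mem_cons_of_mem _ ha))
    have hx : x < 8 := by simpa [Nat.blt] using h' x List.mem_cons_self
    have he : evalL (x :: w) = mul (genTab.getD x []) (evalL w) := by
      show forceL (evalL w) (fun r => mul (genTab.getD x []) r) = _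
      rw [forceL_eq]
    rw [he]
    refine ⟨(gen_ok x hx).1.mul _, gU hω ⟨x, hx⟩ * g, mul_mem (Subgroup.subset_closure ⟨_, rfl⟩) hg, ?_⟩
    rw [mat_mul hω (gen_ok x hx).1 ho, Units.val_mul, hm]
    rfl

variable [Fintype K] (hK : Fintype.card K = 8)

include hK in
theorem exists_primitive : ∃ w : K, w ^ 3 = w + 1 := by
  classical
  obtain ⟨x, hx0, hx1⟩ : ∃ x : K, x ≠ 0 ∧ x ≠ 1 := by
    by_contra hc
    push Not at hc
    have : (Finset.univ : Finset K) ⊆ {0, 1} := fun x _ => by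
      by_cases h : x = 0
      · simp [h]
      · simp [hc x h]
    have := Finset.card_le_card this
    rw [Finset.card_univ, hK] at this
    have h2 : ({0, 1} : Finset K).card ≤ 2 := Finset.card_le_two
    omega
  have h7 := pow_seven hK hx0
  have hf : (x - 1) * ((x ^ 3 + x + 1) * (x ^ 3 + x ^ 2 + 1)) = 0 := by
    have h2 := CharTwo.two_eq_zero (R := K)
    linear_combination h7 + (x ^ 4 - x ^ 3) * h2
  rcases mul_eq_zero.1 hf with h | h
  · exact absurd (sub_eq_zero.1 h) hx1
  rcases mul_eq_zero.1 h with h | h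
  · exact ⟨x, by linear_combination h - (x + 1) * CharTwo.two_eq_zero (R := K)⟩
  · refine ⟨x⁻¹, ?_⟩
    field_simp
    linear_combination h - (x ^ 3 + x ^ 2) * CharTwo.two_eq_zero (R := K)

include hK in
theorem exists_pow (hω : ω ^ 3 = ω + 1) {t : K} (ht : t ≠ 0) : ∃ k < 7, ω ^ k = t := by
  classical
  have w0 : ω ≠ 0 := by rintro rfl; simp at hω
  have w1 : ω ≠ 1 := by
    rintro rfl; exact one_ne_zero (α := K) (by linear_combination -hω)
  have hord : orderOf ω = 7 := by
    haveI : Fact (Nat.Prime 7) := ⟨by norm_num⟩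
    exact orderOf_eq_prime (pow_seven hK w0) w1
  have hsub : ((Finset.range 7).image fun k => ω ^ k) = Finset.univ.erase (0 : K) := by
    refine Finset.eq_of_subset_of_card_le (fun y hy => ?_) ?_
    · obtain ⟨k, -, rfl⟩ := Finset.mem_image.1 hy
      simp [w0]
    · rw [Finset.card_erase_of_mem (Finset.mem_univ _), Finset.card_univ, hK, Finset.card_image_of_injOn,
        Finset.card_range]
      intro a ha b hb e
      exact pow_injOn_Iio_orderOf (by simpa [hord] using ha) (by simpa [hord] using hb) e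
  have : t ∈ (Finset.range 7).image fun k => ω ^ k := by rw [hsub]; simp [ht]
  obtain ⟨k, hk, e⟩ := Finset.mem_image.1 this
  exact ⟨k, Finset.mem_range.1 hk, e⟩

theorem y_zero (r : Fin chevD4.nroots) : Tab.y D4.ok K r 0 = 1 := by
  refine Units.ext ?_
  rw [Tab.y_val, Tab.Y, eval_append, Tab.eval_one D4.ok, Units.val_one]
  have hs := tab_shape r
  generalize D4.tab.A r = L at hs ⊢
  induction L with
  | nil => simp
  | cons e L ih =>
    rw [eval_cons, (hs e List.mem_cons_self).1]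
    simpa using ih fun a ha => hs a (List.mem_cons_of_mem _ ha)

theorem det_eq_one {g : GL I K} (hg : g ∈ Tab.Em D4.ok K) : (g : Matrix I I K).det = 1 := by
  induction hg using Subgroup.closure_induction with
  | one => simp
  | mul a b _ _ ha hb => rw [Units.val_mul, Matrix.det_mul, ha, hb, one_mul]
  | inv a _ ha =>
    have := congrArg Matrix.det (Units.mul_inv a)
    rwa [Matrix.det_mul, ha, one_mul, Matrix.det_one] at this
  | mem x hx =>
    obtain ⟨r, t, rfl⟩ := hx
    have h := congrArg Matrix.det (Units.mul_inv (Tab.y D4.ok K r t))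
    rw [Matrix.det_mul, Matrix.det_one, Tab.y_inv, CharTwo.neg_eq, ← Tab.y_val D4.ok] at h
    have h2 : ((Tab.y D4.ok K r t : Matrix I I K).det - 1) ^ 2 = 0 := by
      linear_combination h - ((Tab.y D4.ok K r t : Matrix I I K).det - 1) * CharTwo.two_eq_zero (R := K)
    exact sub_eq_zero.1 (pow_eq_zero_iff two_ne_zero |>.1 h2)

include hK in
theorem compat_unique {x : GL chevD4.Idx K} {g g' : GL I K} (hg : g ∈ Tab.Em D4.ok K) (hg' : g' ∈ Tab.Em D4.ok K)
    (h : Tab.Compat (T := D4.tab) K x g) (h' : Tab.Compat (T := D4.tab) K x g') : g = g' := by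
  have h1 : Tab.Compat (T := D4.tab) K 1 (g⁻¹ * g') := by simpa using (h.inv K).mul K h'
  obtain ⟨c, hc⟩ := Tab.scalar_of_trivial D4.ok K h1
  have hd := det_eq_one (mul_mem (inv_mem hg) hg')
  rw [hc, Matrix.det_smul, Matrix.det_one, mul_one] at hd
  have hc8 : c ^ Fintype.card I = c := by
    rw [show Fintype.card I = 8 from rfl, ← hK]; exact FiniteField.pow_card c
  rw [hc8] at hd
  rw [← inv_mul_eq_one]
  exact Units.ext (by rw [hc, hd, one_smul, Units.val_one])

include hK in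
/-- The eight dimensional representation. -/
theorem exists_rep (hω : ω ^ 3 = ω + 1) :
    ∃ φ : ↥(twistedD4 K 2) →* GL I K, Function.Injective φ ∧ φ.range = model hω := by
  classical
  obtain ⟨Φ⟩ := CfsgLib.Chev.exists_chev (D := chevD4) (by simp)
  have hgrp : twistedD4 K 2 ≤ chevD4.group K := by
    rw [T3D4.twisted_eq, Subgroup.closure_le]
    intro g hg
    obtain ⟨w, hw, hg⟩ := hg
    have hwr : ∀ p ∈ w, p.1 < chevD4.nroots := by
      rcases hw with ⟨t, -, r, hr, rfl⟩ | ⟨t, rs, hr, rfl⟩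
      · simp only [List.mem_cons, List.not_mem_nil, or_false] at hr
        rcases hr with rfl | rfl <;> simp <;> decide
      · simp only [List.mem_cons, List.not_mem_nil, or_false] at hr
        rcases hr with rfl | rfl <;> simp <;> decide
    clear hw
    induction w generalizing g with
    | nil =>
      have : g = 1 := Units.ext (by simpa [ChevalleyDatum.wordMat] using hg)
      rw [this]; exact one_mem _
    | cons p w ih =>
      have hr := hwr p List.mem_cons_self
      have e : ((Φ.toAlg.xg ⟨p.1, hr⟩ p.2)⁻¹ * g : GL chevD4.Idx K).val = chevD4.wordMat K w := by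
        rw [Units.val_mul, hg, ← Matrix.one_mul (chevD4.wordMat K w), ← Units.inv_mul (Φ.toAlg.xg ⟨p.1, hr⟩ p.2),
          Matrix.mul_assoc, ← Alg.x_val, ← Alg.wordMat_cons]
      have := mul_mem (Φ.toAlg.xg_mem_group ⟨p.1, hr⟩ p.2) (ih e fun q hq => hwr q (List.mem_cons_of_mem _ hq))
      rwa [mul_inv_cancel_left] at this
  choose h hEm hcompat using fun x : ↥(twistedD4 K 2) => Tab.exists_y D4.ok K x.1 (hgrp x.2)
  let φ : ↥(twistedD4 K 2) →* GL I K := MonoidHom.mk' h fun a b =>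
    compat_unique hK (hEm _) (mul_mem (hEm a) (hEm b)) (hcompat _) ((hcompat a).mul K (hcompat b))
  have hval : ∀ (x : ↥(twistedD4 K 2)) g, g ∈ Tab.Em D4.ok K → Tab.Compat (T := D4.tab) K x.1 g → φ x = g :=
    fun x g hg hc => compat_unique hK (hEm x) hg (hcompat x) hc
  refine ⟨φ, ?_, ?_⟩
  · obtain ⟨e, he⟩ := OrthD4Model.exists_equiv (F := K)
    rw [injective_iff_map_eq_one]
    intro x hx
    have hc := hcompat x
    rw [show h x = 1 from hx] at hc
    have h1 := (he 1).2 ⟨x.1, hgrp x.2⟩ (by simpa using hc)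
    have h2 := (he 1).2 1 (by simpa using Tab.compat_one (T := D4.tab) K)
    exact Subtype.ext (congrArg (fun z : ↥(chevD4.group K) => z.1) (h1.trans h2.symm))
  -- the images of the generators
  have hxm : ∀ (r : Fin chevD4.nroots) (t : K), chevD4.x K r.1 t = chevD4.xMat K r t := fun r t => by
    rw [ChevalleyDatum.x, dif_pos r.isLt]
  have hxg : ∀ (r : Fin chevD4.nroots) (t : K), (Φ.toAlg.xg r t).val = chevD4.xMat K r t := fun r t =>
    (Φ.toAlg.x_val r t).symm.trans (hxm r t)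
  have hy : ∀ r k, Tab.y D4.ok K r (ω ^ k) ∈ Tab.Em D4.ok K := fun r k => Subgroup.subset_closure ⟨r, _, rfl⟩
  have himg2 : ∀ r : Fin chevD4.nroots, r.1 ∈ [d4p2, d4m2] → ∀ x : ↥(twistedD4 K 2), ∀ t : K,
      (x.1 : Matrix chevD4.Idx chevD4.Idx K) = chevD4.wordMat K [(r.1, t)] → φ x = Tab.y D4.ok K r t := by
    intro r _ x t hxv
    refine hval _ _ (Subgroup.subset_closure ⟨r, t, rfl⟩) (Tab.compat_y D4.ok K r t x.1 ?_)
    rw [hxv]
    simp [ChevalleyDatum.wordMat, hxm]
  have himg3 : ∀ r s u : Fin chevD4.nroots, ∀ x : ↥(twistedD4 K 2), ∀ a b c : K,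
      (x.1 : Matrix chevD4.Idx chevD4.Idx K) = chevD4.wordMat K [(r.1, a), (s.1, b), (u.1, c)] →
      φ x = Tab.y D4.ok K r a * Tab.y D4.ok K s b * Tab.y D4.ok K u c := by
    intro r s u x a b c hxv
    refine hval _ _ (mul_mem (mul_mem (Subgroup.subset_closure ⟨r, a, rfl⟩) (Subgroup.subset_closure ⟨s, b, rfl⟩))
      (Subgroup.subset_closure ⟨u, c, rfl⟩)) ?_
    have hx : x.1 = Φ.toAlg.xg r a * Φ.toAlg.xg s b * Φ.toAlg.xg u c := Units.ext (by
      rw [hxv, Units.val_mul, Units.val_mul, hxg, hxg, hxg]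
      simp [ChevalleyDatum.wordMat, hxm, Matrix.mul_assoc])
    rw [hx]
    exact ((Tab.compat_y D4.ok K r a _ (hxg r a)).mul K
      (Tab.compat_y D4.ok K s b _ (hxg s b))).mul K
      (Tab.compat_y D4.ok K u c _ (hxg u c))
  have hxW : ∀ neg, ∀ k < 7, ∃ g ∈ model hω, (g : Matrix I I K) = mat ω (xP neg k) := fun neg k hk => by
    have h := allN_iff.1 xP_words k hk
    simp only [Bool.and_eq_true, meq_iff] at h
    have hw : allL (fun x => Nat.blt x 8) ((xW neg).getD k []) = true := by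
      have : ∀ neg, ∀ k : Fin 7, allL (fun x => Nat.blt x 8) ((xW neg).getD k.1 []) = true := by decide +kernel
      exact this neg ⟨k, hk⟩
    obtain ⟨-, g, hg, hm⟩ := word_mem hω _ hw
    cases neg
    · exact ⟨g, hg, by rw [hm, h.1]⟩
    · exact ⟨g, hg, by rw [hm, h.2]⟩
  have hxP : ∀ neg k, mat ω (xP neg k) = bif neg then
      (Tab.y D4.ok K ⟨5, by decide⟩ (ω ^ k) * Tab.y D4.ok K ⟨10, by decide⟩ (ω ^ (2 * k)) *
        Tab.y D4.ok K ⟨11, by decide⟩ (ω ^ (4 * k)) : GL I K).val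
      else (Tab.y D4.ok K ⟨18, by decide⟩ (ω ^ k) * Tab.y D4.ok K ⟨13, by decide⟩ (ω ^ (2 * k)) *
        Tab.y D4.ok K ⟨12, by decide⟩ (ω ^ (4 * k)) : GL I K).val := fun neg k => by
    cases neg <;>
      simp only [xP, cond_false, cond_true, Units.val_mul] <;>
      rw [mat_mul hω ((mat_yP hω _ _).1.mul _) (mat_yP hω _ _).1, mat_mul hω (mat_yP hω _ _).1 (mat_yP hω _ _).1,
        (mat_yP hω _ _).2, (mat_yP hω _ _).2, (mat_yP hω _ _).2]
  have hyw := yP_words
  simp only [Bool.and_eq_true, meq_iff] at hyw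
  refine le_antisymm ?_ ?_
  · rintro _ ⟨⟨x, hx⟩, rfl⟩
    induction hx using Subgroup.closure_induction with
    | one => rw [show (⟨1, _⟩ : ↥(twistedD4 K 2)) = 1 from rfl, map_one]; exact one_mem _
    | mul a b ha hb iha ihb =>
      rw [show (⟨a * b, _⟩ : ↥(twistedD4 K 2)) = ⟨a, ha⟩ * ⟨b, hb⟩ from rfl, map_mul]
      exact mul_mem iha ihb
    | inv a ha iha =>
      rw [show (⟨a⁻¹, _⟩ : ↥(twistedD4 K 2)) = ⟨a, ha⟩⁻¹ from rfl, map_inv]
      exact inv_mem iha
    | mem x hx =>
      obtain ⟨w, (⟨t, ht, r, hr, rfl⟩ | ⟨t, rs, hr, rfl⟩), hg⟩ := hx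
      · simp only [List.mem_cons, List.not_mem_nil, or_false] at hr
        have ht' : t = 0 ∨ t = 1 := by
          have : t * (t - 1) = 0 := by linear_combination ht
          rcases mul_eq_zero.1 this with e | e
          · exact Or.inl e
          · exact Or.inr (sub_eq_zero.1 e)
        rcases hr with rfl | rfl
        · rw [himg2 ⟨d4p2, by decide⟩ (by simp) _ t hg]
          rcases ht' with rfl | rfl
          · rw [y_zero]; exact one_mem _
          · refine Subgroup.subset_closure ⟨0, Units.ext ?_⟩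
            have := (mat_yP hω ⟨14, by decide⟩ 0).2
            rw [hyw.1, pow_zero] at this
            exact this
        · rw [himg2 ⟨d4m2, by decide⟩ (by simp) _ t hg]
          rcases ht' with rfl | rfl
          · rw [y_zero]; exact one_mem _
          · refine Subgroup.subset_closure ⟨4, Units.ext ?_⟩
            have := (mat_yP hω ⟨9, by decide⟩ 0).2
            rw [hyw.2, pow_zero] at this
            exact this
      · simp only [List.mem_cons, List.not_mem_nil, or_false] at hr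
        rcases hr with rfl | rfl
        · rw [himg3 ⟨d4p1, by decide⟩ ⟨d4p3, by decide⟩ ⟨d4p4, by decide⟩ _ t (t ^ 2) (t ^ 2 ^ 2) hg]
          by_cases h0 : t = 0
          · subst h0; simp [y_zero, one_mem]
          obtain ⟨k, hk, rfl⟩ := exists_pow hK hω h0
          obtain ⟨g, hg', hm⟩ := hxW false k hk
          rw [hxP] at hm
          convert hg' using 1
          refine Units.ext ?_
          rw [hm, cond_false, ← pow_mul, ← pow_mul, Nat.mul_comm k 2, Nat.mul_comm k (2 ^ 2)]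
          rfl
        · rw [himg3 ⟨d4m1, by decide⟩ ⟨d4m3, by decide⟩ ⟨d4m4, by decide⟩ _ t (t ^ 2) (t ^ 2 ^ 2) hg]
          by_cases h0 : t = 0
          · subst h0; simp [y_zero, one_mem]
          obtain ⟨k, hk, rfl⟩ := exists_pow hK hω h0
          obtain ⟨g, hg', hm⟩ := hxW true k hk
          rw [hxP] at hm
          convert hg' using 1
          refine Units.ext ?_
          rw [hm, cond_true, ← pow_mul, ← pow_mul, Nat.mul_comm k 2, Nat.mul_comm k (2 ^ 2)]
          rfl
  · rw [model, Subgroup.closure_le]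
    rintro _ ⟨x, rfl⟩
    have hsmall : ∀ r, r ∈ [d4p2, d4m2] → ∀ hr : r < chevD4.nroots,
        Tab.y D4.ok K ⟨r, hr⟩ 1 ∈ φ.range := fun r hr' hr => by
      refine ⟨⟨Φ.toAlg.xg ⟨r, hr⟩ 1, Subgroup.subset_closure ⟨[(r, 1)], Or.inl ⟨1, one_pow 2, r, hr', rfl⟩, ?_⟩⟩, ?_⟩
      · rw [hxg]; simp [ChevalleyDatum.wordMat, ← hxm]
      · exact himg2 ⟨r, hr⟩ hr' _ 1 (by rw [hxg]; simp [ChevalleyDatum.wordMat, ← hxm])
    have hlarge : ∀ rs, rs ∈ [(d4p1, d4p3, d4p4), (d4m1, d4m3, d4m4)] → ∀ (h1 : rs.1 < chevD4.nroots)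
        (h2 : rs.2.1 < chevD4.nroots) (h3 : rs.2.2 < chevD4.nroots), ∀ k,
        Tab.y D4.ok K ⟨rs.1, h1⟩ (ω ^ k) * Tab.y D4.ok K ⟨rs.2.1, h2⟩ (ω ^ (2 * k)) *
          Tab.y D4.ok K ⟨rs.2.2, h3⟩ (ω ^ (4 * k)) ∈ φ.range := fun rs hrs h1 h2 h3 k => by
      have hw : chevD4.wordMat K [(rs.1, ω ^ k), (rs.2.1, (ω ^ k) ^ 2), (rs.2.2, (ω ^ k) ^ 2 ^ 2)] =
          (Φ.toAlg.xg ⟨rs.1, h1⟩ (ω ^ k) * Φ.toAlg.xg ⟨rs.2.1, h2⟩ ((ω ^ k) ^ 2) *
            Φ.toAlg.xg ⟨rs.2.2, h3⟩ ((ω ^ k) ^ 2 ^ 2) : GL chevD4.Idx K).val := by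
        rw [Units.val_mul, Units.val_mul, hxg, hxg, hxg]
        simp [ChevalleyDatum.wordMat, ← hxm, Matrix.mul_assoc]
      refine ⟨⟨Φ.toAlg.xg ⟨rs.1, h1⟩ (ω ^ k) * Φ.toAlg.xg ⟨rs.2.1, h2⟩ ((ω ^ k) ^ 2) *
        Φ.toAlg.xg ⟨rs.2.2, h3⟩ ((ω ^ k) ^ 2 ^ 2),
        Subgroup.subset_closure ⟨_, Or.inr ⟨ω ^ k, rs, hrs, rfl⟩, hw.symm⟩⟩, ?_⟩
      rw [himg3 ⟨rs.1, h1⟩ ⟨rs.2.1, h2⟩ ⟨rs.2.2, h3⟩ _ (ω ^ k) ((ω ^ k) ^ 2) ((ω ^ k) ^ 2 ^ 2) hw.symm,
        ← pow_mul, ← pow_mul, Nat.mul_comm k 2, Nat.mul_comm k (2 ^ 2)]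
      rfl
    have hg := genTab_xP
    simp only [Bool.and_eq_true, meq_iff] at hg
    obtain ⟨⟨⟨⟨⟨g1, g2⟩, g3⟩, g5⟩, g6⟩, g7⟩ := hg
    have viaP : ∀ (y : Fin 8) (k : ℕ), xP false k = genTab.getD y.1 [] → gU hω y ∈ φ.range := fun y k e => by
      have e' := hxP false k
      rw [e] at e'
      rw [show gU hω y = _ from Units.ext e']
      exact hlarge (d4p1, d4p3, d4p4) (by simp) (by decide) (by decide) (by decide) k
    have viaM : ∀ (y : Fin 8) (k : ℕ), xP true k = genTab.getD y.1 [] → gU hω y ∈ φ.range := fun y k e => by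
      have e' := hxP true k
      rw [e] at e'
      rw [show gU hω y = _ from Units.ext e']
      exact hlarge (d4m1, d4m3, d4m4) (by simp) (by decide) (by decide) (by decide) k
    have via2 : ∀ (y : Fin 8) (r : Fin chevD4.nroots), r.1 ∈ [d4p2, d4m2] → yP r 0 = genTab.getD y.1 [] →
        gU hω y ∈ φ.range := fun y r hr e => by
      have e' := (mat_yP hω r 0).2
      rw [e, pow_zero] at e'
      rw [show gU hω y = _ from Units.ext e']
      exact hsmall r.1 hr r.2
    have c0 := via2 0 ⟨14, by decide⟩ (by simp [d4p2]) hyw.1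
    have c1 := viaP 1 0 g1
    have c2 := viaP 2 1 g2
    have c3 := viaP 3 2 g3
    have c4 := via2 4 ⟨9, by decide⟩ (by simp [d4m2]) hyw.2
    have c5 := viaM 5 0 g5
    have c6 := viaM 6 1 g6
    have c7 := viaM 7 2 g7
    fin_cases x
    exacts [c0, c1, c2, c3, c4, c5, c6, c7]

include hK in
theorem card_twisted : Nat.card ↥(twistedD4 K 2) = 2 ^ 12 * 3 ^ 4 * 7 ^ 2 * 13 := by
  rw [T3D4.card_G (q := 2) Nat.prime_two.isPrimePow (by rw [hK]; rfl)]
  norm_num

end CfsgLib.Spectrum3D4
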