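/-
Groups with the element orders of the triality group over two.
-/
import Cfsg.Agent.Lib.Spectrum3D4.Model
import Mathlib.GroupTheory.SemidirectProduct
import Mathlib.Logic.Equiv.Fin.Basic

set_option autoImplicit false
set_option linter.unusedSectionVars false
set_option maxRecDepth 100000
set_option maxHeartbeats 1600000

namespace CfsgLib.Spectrum3D4

open Cfsg Cfsg.Lie Matrix Data CfsgLib.Chev CfsgLib.ChevClassical
open CfsgLib.ChevClassical.D4 (I code)

universe u

variable {K : Type u} [Field K] [CharP K 2] [Fintype K] {ω : K}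

/-- Units realising a list of words. -/
theorem exists_units (hω : ω ^ 3 = ω + 1) : ∀ {ws ms : List (List ℕ)}, wordsOK ws ms = true →
    ∃ us : List (GL I K), (∀ x ∈ us, x ∈ model hω) ∧ us.length = ms.length ∧
      List.Forall₂ (fun (x : GL I K) g => Ok g ∧ (x : Matrix I I K) = mat ω g) us ms
  | [], [], _ => ⟨[], by simp, rfl, List.Forall₂.nil⟩
  | [], m :: ms, h => by simp [wordsOK] at h
  | w :: ws, [], h => by simp [wordsOK] at h
  | w :: ws, m :: ms, h => by
    simp only [wordsOK, allZ, Bool.and_eq_true, List.length_cons] at h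
    obtain ⟨hl, ⟨⟨hw, hm⟩, he⟩, hrest⟩ := h
    obtain ⟨us, h1, h2, h3⟩ := exists_units hω (ws := ws) (ms := ms)
      (by simp only [wordsOK, Bool.and_eq_true]; exact ⟨by simpa using hl, hrest⟩)
    obtain ⟨-, g, hg, hgm⟩ := word_mem hω w hw
    refine ⟨g :: us, ?_, by simp [h2], List.Forall₂.cons ⟨Nat.eq_of_beq_eq_true hm, ?_⟩ h3⟩
    · intro x hx
      rcases List.mem_cons.1 hx with rfl | hx
      · exact hg
      · exact h1 x hx
    · rw [hgm, (meq_iff _ _).1 he]

variable (hK : Fintype.card K = 8)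

/-- Sylow's theorem for a checked chain. -/
theorem sylow_list (hω : ω ^ 3 = ω + 1) {p : ℕ} [Fact p.Prime] {ws ms : List (List ℕ)} {cs : List (ℕ × List ℕ)}
    (hw : wordsOK ws ms = true) (hc : chainOK p ms cs = true)
    (hmax : ¬ p ^ (ms.length + 1) ∣ Nat.card (model hω))
    {x : GL I K} (hx : x ∈ model hω) (hp : ∃ l, x ^ p ^ l = 1) :
    ∃ c : GL I K, ∃ y ∈ spanL p ms, Ok y ∧ ((c * x * c⁻¹ : GL I K) : Matrix I I K) = mat ω y := by
  obtain ⟨us, hus, hlen, hF⟩ := exists_units hω hw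
  obtain ⟨S, hS, hScl, hScard⟩ := exists_subgroup us (chainOK_spec hω p us ms cs hF hc)
  have hle : S ≤ model hω := by rw [hScl, Subgroup.closure_le]; exact hus
  have hcard : Nat.card (S.subgroupOf (model hω)) = p ^ ms.length := by
    rw [Nat.card_congr (Subgroup.subgroupOfEquivOfLe hle).toEquiv, hScard, hlen]
  obtain ⟨l, hl⟩ := hp
  obtain ⟨c, hcm⟩ := exists_conj_mem (S.subgroupOf (model hω)) hcard hmax (g := ⟨x, hx⟩) ⟨l, Subtype.ext hl⟩
  rw [Subgroup.mem_subgroupOf] at hcm
  obtain ⟨y, hy, hyo, hym⟩ := exists_of_forall₂ (span_map hω p us ms hF) _ ((hS _).1 hcm)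
  exact ⟨c.1, y, hy, hyo, hym⟩

section Conj

variable (C : GL I K)

/-- Conjugation of matrices. -/
noncomputable def cjM (X : Matrix I I K) : Matrix I I K := C.val * X * (C⁻¹ : GL I K).val

theorem cjM_add (X Y : Matrix I I K) : cjM C (X + Y) = cjM C X + cjM C Y := by
  simp [cjM, mul_add, add_mul]

theorem cjM_sub (X Y : Matrix I I K) : cjM C (X - Y) = cjM C X - cjM C Y := by
  simp [cjM, mul_sub, sub_mul]

theorem cjM_one : cjM C 1 = 1 := by simp [cjM]

theorem cjM_zero : cjM C 0 = 0 := by simp [cjM]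

theorem cjM_mul (X Y : Matrix I I K) : cjM C (X * Y) = cjM C X * cjM C Y := by
  simp only [cjM, mul_assoc, ← mul_assoc (C⁻¹ : GL I K).val C.val, Units.inv_mul, one_mul]

theorem cjM_pow (X : Matrix I I K) : ∀ n : ℕ, cjM C (X ^ n) = cjM C X ^ n
  | 0 => by simp [cjM_one]
  | n + 1 => by rw [pow_succ, pow_succ, cjM_mul, cjM_pow X n]

theorem cjM_powSum (X : Matrix I I K) (n : ℕ) : cjM C (powSum X n) = powSum (cjM C X) n := by
  simp only [powSum]
  rw [cjM, Finset.mul_sum, Finset.sum_mul]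
  exact Finset.sum_congr rfl fun i _ => cjM_pow C X i

theorem cjM_rank (X : Matrix I I K) : (cjM C X).rank = X.rank := by
  rw [cjM, Matrix.rank_mul_eq_left_of_isUnit_det _ _ ((Matrix.isUnit_iff_isUnit_det _).1 (C⁻¹).isUnit),
    Matrix.rank_mul_eq_right_of_isUnit_det _ _ ((Matrix.isUnit_iff_isUnit_det _).1 C.isUnit)]

theorem cjM_inj {X Y : Matrix I I K} (h : cjM C X = cjM C Y) : X = Y := by
  have := congrArg (fun Z => (C⁻¹ : GL I K).val * Z * C.val) h
  simpa [cjM, mul_assoc] using this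

theorem cjM_val (x : GL I K) : ((C * x * C⁻¹ : GL I K) : Matrix I I K) = cjM C x.val := rfl

theorem conj_pow_eq_one {x : GL I K} {n : ℕ} : (C * x * C⁻¹) ^ n = 1 ↔ x ^ n = 1 := by
  rw [conj_pow, mul_inv_eq_one, mul_eq_left]

theorem conj_eq_one' {x : GL I K} : C * x * C⁻¹ = 1 ↔ x = 1 := by
  rw [mul_inv_eq_one, mul_eq_left]

end Conj

include hK in
theorem model_card (hω : ω ^ 3 = ω + 1) : Nat.card (model hω) = 2 ^ 12 * 3 ^ 4 * 7 ^ 2 * 13 := by
  obtain ⟨φ, hφ, hr⟩ := exists_rep hK hω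
  rw [← hr, ← card_twisted hK]
  exact (Nat.card_congr (MonoidHom.ofInjective hφ).toEquiv).symm

include hK in
theorem facts (hω : ω ^ 3 = ω + 1) : Facts (model hω) := by
  haveI : CharP (Matrix I I K) 2 := charP_of_injective_algebraMap (algebraMap K (Matrix I I K)).injective 2
  have hcard := model_card hK hω
  refine ⟨hcard, ?_, ?_, ?_, ?_⟩
  · intro x hx hp
    haveI : Fact (Nat.Prime 2) := ⟨Nat.prime_two⟩
    obtain ⟨c, y, hy, hyo, hym⟩ := sylow_list hω words_ok2 chain_ok2 (by rw [hcard]; decide +kernel) hx hp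
    obtain ⟨a1, a2, a3, a4⟩ := check2_spec hω hyo hym ((allL_iff _ _).1 all_check2 y hy)
    rw [conj_pow_eq_one] at a1 a3 a4
    simp only [cjM_val, conj_eq_one'] at a2 a3 a4
    rw [← cjM_one c, ← cjM_sub] at a2 a3 a4
    simp only [← cjM_pow, cjM_rank] at a2 a3 a4
    refine ⟨a1, cjM_inj c (by rw [a2, cjM_zero]), fun h hr => cjM_inj c (by rw [a3 h hr, cjM_zero]), a4⟩
  · intro x hx hp
    haveI : Fact (Nat.Prime 3) := ⟨Nat.prime_three⟩
    obtain ⟨c, y, hy, hyo, hym⟩ := sylow_list hω words_ok3 chain_ok3 (by rw [hcard]; decide +kernel) hx hp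
    obtain ⟨b, hb⟩ := allZ_spec _ _ _ all_check3 y hy
    obtain ⟨a1, a2, a3⟩ := check3_spec hω hyo hym hb
    rw [ne_eq, conj_pow_eq_one] at a2
    rw [conj_pow_eq_one, ne_eq, conj_eq_one'] at a3
    rw [cjM_val, ← cjM_powSum] at a2
    rw [cjM_val, ← cjM_one c, ← cjM_pow, ← cjM_add, ← cjM_add, cjM_rank] at a3
    exact ⟨(conj_pow_eq_one c).1 a1, fun h => cjM_inj c (by rw [a2 h, cjM_zero]), a3⟩
  · intro x hx hp
    haveI : Fact (Nat.Prime 7) := ⟨by norm_num⟩
    obtain ⟨c, y, hy, hyo, hym⟩ := sylow_list hω words_ok7 chain_ok7 (by rw [hcard]; decide +kernel) hx hp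
    obtain ⟨b, hb⟩ := allZ_spec _ _ _ all_check7 y hy
    obtain ⟨a1, a2⟩ := check7_spec hω hyo hym hb
    refine ⟨(conj_pow_eq_one c).1 a1, fun h => ?_⟩
    rcases a2 (fun e => h ((conj_eq_one' c).1 e)) with hz | ⟨E, hsum, hZ, hE, hc⟩
    · exact Or.inl (cjM_inj c (by rw [cjM_powSum, ← cjM_val, hz, cjM_zero]))
    refine Or.inr ⟨fun k => cjM c⁻¹ (E k), ?_, ?_, fun k => ?_, fun k b hb' => ?_⟩
    · have hrev : ∀ X, cjM c (cjM c⁻¹ X) = X := fun X => by simp [cjM, mul_assoc]
      refine cjM_inj c ?_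
      rw [cjM_add, cjM_one, cjM_powSum, ← cjM_val]
      refine Eq.trans ?_ hsum
      congr 1
      rw [show cjM c (∑ k, cjM c⁻¹ (E k)) = ∑ k, cjM c (cjM c⁻¹ (E k)) by simp [cjM, Finset.mul_sum, Finset.sum_mul]]
      exact Finset.sum_congr rfl fun k _ => hrev _
    · rwa [cjM_val, ← cjM_powSum, cjM_rank] at hZ
    · rw [cjM_rank]; exact hE k
    · have h1 : Commute (cjM c b) ((c * x * c⁻¹ : GL I K) : Matrix I I K) := by
        rw [cjM_val]
        show _ * _ = _ * _
        rw [← cjM_mul, hb'.eq, cjM_mul]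
      have h2 := (hc k (cjM c b) h1).eq
      show b * _ = _ * b
      have hr : ∀ X, cjM c (cjM c⁻¹ X) = X := fun X => by simp [cjM, mul_assoc]
      refine cjM_inj c ?_
      rw [cjM_mul, cjM_mul, hr]
      exact h2
  · intro x hx hp
    haveI : Fact (Nat.Prime 13) := ⟨by norm_num⟩
    obtain ⟨c, y, hy, hyo, hym⟩ := sylow_list hω words_ok13 chain_ok13 (by rw [hcard]; decide +kernel) hx hp
    obtain ⟨a1, a2⟩ := check13_spec hω hyo hym ((allL_iff _ _).1 all_check13 y hy)
    refine ⟨(conj_pow_eq_one c).1 a1, fun h => cjM_inj c ?_⟩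
    rw [cjM_powSum, ← cjM_val, a2 (fun e => h ((conj_eq_one' c).1 e)), cjM_zero]

include hK in
theorem exists_order (hω : ω ^ 3 = ω + 1) {n : ℕ} (hn : n ∈ [2, 4, 6, 8, 12, 14]) :
    ∃ g ∈ model hω, orderOf g = n := by
  have hcov : ∀ m ∈ [2, 4, 6, 8, 12, 14], ∃ e ∈ wit, e.1 = m := by decide +kernel
  obtain ⟨e, he, rfl⟩ := hcov n hn
  have h := (allL_iff _ _).1 wit_ok e he
  simp only [Bool.and_eq_true, meq_iff, allN_iff, Bool.or_eq_true] at h
  obtain ⟨⟨⟨hw, hm⟩, hpow⟩, hlow⟩ := h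
  obtain ⟨ho, g, hg, hgm⟩ := word_mem hω e.2.1 hw
  rw [hm] at ho hgm
  refine ⟨g, hg, (orderOf_eq_iff (by simp at hn; omega)).2 ⟨Units.ext ?_, fun i hi hi0 h1 => ?_⟩⟩
  · rw [Units.val_pow_eq_pow_val, hgm, ← mat_powL hω ho, hpow, mat_one, Units.val_one]
  · rcases hlow i hi with h' | h'
    · exact absurd (Nat.eq_of_beq_eq_true h') (by omega)
    · refine nzM_spec hω h' ?_
      rw [mat_add ω (ok_powL ho i) ok_one8, mat_powL hω ho, mat_one, ← hgm, ← Units.val_pow_eq_pow_val, h1,
        Units.val_one, CharTwo.add_self_eq_zero]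

section Extension

variable {G : Type u} [Group G] (φ : G →* GL I K) (N : ℕ)

/-- The coordinatewise action on copies of the module. -/
noncomputable def act : G →* MulAut (Multiplicative (Fin N → I → K)) where
  toFun g :=
    { toFun := fun v => Multiplicative.ofAdd fun i => (φ g).val *ᵥ v.toAdd i
      invFun := fun v => Multiplicative.ofAdd fun i => (φ g)⁻¹.val *ᵥ v.toAdd i
      left_inv := fun v => by simp [Matrix.mulVec_mulVec, ← Units.val_mul]
      right_inv := fun v => by simp [Matrix.mulVec_mulVec, ← Units.val_mul]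
      map_mul' := fun v w => by
        refine Multiplicative.toAdd.injective (funext fun i => ?_)
        simp [Matrix.mulVec_add] }
  map_one' := MulEquiv.ext fun v => by simp
  map_mul' g h := MulEquiv.ext fun v => by
    simp [Matrix.mulVec_mulVec]

/-- The extension. -/
abbrev Ext := Multiplicative (Fin N → I → K) ⋊[act φ N] G

theorem pow_left (x : Ext φ N) : ∀ k : ℕ,
    (x ^ k).right = x.right ^ k ∧ (x ^ k).left.toAdd = fun i => powSum (φ x.right).val k *ᵥ x.left.toAdd i
  | 0 => ⟨by simp, by funext i; simp [powSum]⟩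
  | k + 1 => by
    obtain ⟨h1, h2⟩ := pow_left x k
    refine ⟨by rw [pow_succ', SemidirectProduct.mul_right, h1, pow_succ'], ?_⟩
    rw [pow_succ', SemidirectProduct.mul_left, toAdd_mul]
    funext i
    show x.left.toAdd i + (φ x.right).val *ᵥ (x ^ k).left.toAdd i = _
    rw [h2, Matrix.mulVec_mulVec]
    simp only [powSum]
    rw [Finset.sum_range_succ', Finset.mul_sum, pow_zero, add_comm, Matrix.add_mulVec, Matrix.one_mulVec]
    simp only [← pow_succ']

theorem range_orderOf [Finite G] (hgood : ∀ g : G, orderOf g ∈ ({1, 2, 3, 4, 6, 7} : Finset ℕ) ∨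
      powSum (φ g).val (orderOf g) = 0)
    (hwit : ∀ n ∈ [2, 4, 6, 8, 12, 14], ∃ g : G, orderOf g = n) :
    Set.range (orderOf : Ext φ N → ℕ) = Set.range (orderOf : G → ℕ) := by
  refine le_antisymm ?_ ?_
  · rintro _ ⟨x, rfl⟩
    obtain ⟨n, hn⟩ : ∃ n, n = orderOf x.right := ⟨_, rfl⟩
    obtain ⟨hr, hl⟩ := pow_left φ N x n
    rw [hn, pow_orderOf_eq_one, ← hn] at hr
    have hdvd : n ∣ orderOf x := hn ▸ orderOf_map_dvd (SemidirectProduct.rightHom (φ := act φ N)) x
    by_cases h1 : x ^ n = 1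
    · refine ⟨x.right, ?_⟩
      rw [← hn]
      exact Nat.dvd_antisymm hdvd (orderOf_dvd_of_pow_eq_one h1)
    have hne : powSum (φ x.right).val n ≠ 0 := fun h0 => h1 (by
      refine SemidirectProduct.ext ?_ hr
      refine Multiplicative.toAdd.injective ?_
      rw [hl, h0]
      funext i
      simp)
    have hmem : n ∈ ({1, 2, 3, 4, 6, 7} : Finset ℕ) := by
      rcases hgood x.right with h | h
      · rwa [hn]
      · rw [← hn] at h; exact absurd h hne
    have h2 : x ^ (2 * n) = 1 := by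
      rw [mul_comm, pow_mul, sq]
      refine SemidirectProduct.ext ?_ (by simp [hr])
      rw [SemidirectProduct.mul_left, hr, map_one]
      refine Multiplicative.toAdd.injective (funext fun i => funext fun j => ?_)
      simp [CharTwo.add_self_eq_zero]
    have hord : orderOf x = 2 * n := by
      obtain ⟨d, hd⟩ := hdvd
      have hn0 : 0 < n := hn ▸ orderOf_pos _
      have h2' : d ∣ 2 := by
        have := orderOf_dvd_of_pow_eq_one h2
        rw [hd, mul_comm 2 n] at this
        exact Nat.dvd_of_mul_dvd_mul_left hn0 this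
      rcases (Nat.dvd_prime Nat.prime_two).1 h2' with rfl | rfl
      · exfalso
        rw [mul_one] at hd
        exact h1 (by rw [← hd]; exact pow_orderOf_eq_one x)
      · rw [hd, mul_comm]
    rw [hord]
    refine hwit (2 * n) ?_
    simp only [Finset.mem_insert, Finset.mem_singleton] at hmem
    simp only [List.mem_cons, List.not_mem_nil, or_false]
    omega
  · rintro _ ⟨g, rfl⟩
    exact ⟨SemidirectProduct.inr g, orderOf_injective _ SemidirectProduct.inr_injective g⟩

end Extension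

include hK in
/-- There are arbitrarily large groups with the element orders of `³D₄(2)`. -/
theorem exists_large (N : ℕ) : ∃ (H : Type) (_ : Group H) (_ : Fintype H), N < Fintype.card H ∧
    Set.range (orderOf : H → ℕ) = Set.range (orderOf : ↥(twistedD4 K 2) → ℕ) := by
  classical
  obtain ⟨w, hw⟩ := exists_primitive hK
  obtain ⟨φ, hφ, hr⟩ := exists_rep hK hw
  have F := facts hK hw
  have hgood : ∀ g, orderOf g ∈ ({1, 2, 3, 4, 6, 7} : Finset ℕ) ∨ powSum (φ g).val (orderOf g) = 0 := fun g => by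
    rw [← orderOf_injective φ hφ g]
    exact order_or_norm hK rfl F (hr ▸ ⟨g, rfl⟩)
  have hwit : ∀ n ∈ [2, 4, 6, 8, 12, 14], ∃ g : ↥(twistedD4 K 2), orderOf g = n := fun n hn => by
    obtain ⟨g, hg, ho⟩ := exists_order hK hw hn
    rw [← hr] at hg
    obtain ⟨g', rfl⟩ := hg
    exact ⟨g', by rwa [orderOf_injective φ hφ] at ho⟩
  haveI : Finite (Ext φ N) := Finite.of_equiv _ SemidirectProduct.equivProd.symm
  haveI : Fintype (Ext φ N) := Fintype.ofFinite _
  let e : Fin (Fintype.card (Ext φ N)) ≃ Ext φ N := (Fintype.equivFin _).symm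
  letI : Group (Fin (Fintype.card (Ext φ N))) := e.group
  refine ⟨Fin (Fintype.card (Ext φ N)), inferInstance, inferInstance, ?_, ?_⟩
  · rw [Fintype.card_fin]
    let f : (Fin N → I → K) → Ext φ N := fun v => SemidirectProduct.inl (Multiplicative.ofAdd v)
    have hf : Function.Injective f := fun a b h => Multiplicative.ofAdd.injective (SemidirectProduct.inl_injective h)
    refine lt_of_lt_of_le ?_ (Fintype.card_le_of_injective f hf)
    simp only [Fintype.card_fun, hK, Fintype.card_fin, show Fintype.card I = 8 from rfl]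
    exact Nat.lt_pow_self (by norm_num)
  · rw [← range_orderOf φ N hgood hwit]
    ext n
    constructor
    · rintro ⟨x, rfl⟩
      exact ⟨e x, MulEquiv.orderOf_eq e.mulEquiv x⟩
    · rintro ⟨x, rfl⟩
      exact ⟨e.symm x, by rw [← MulEquiv.orderOf_eq e.mulEquiv]; simp⟩

end CfsgLib.Spectrum3D4

namespace CfsgLib.Spectrum3D4

/-- A field of eight elements has characteristic two. -/
theorem charP_two_of_card {K : Type*} [Field K] [Fintype K] (hK : Fintype.card K = 8) : CharP K 2 := by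
  obtain ⟨p, hp⟩ := CharP.exists K
  obtain ⟨n, hpr, hn⟩ := FiniteField.card K p
  rw [hK] at hn
  have h : p ∣ 2 ^ 3 := ⟨p ^ (n.1 - 1), by
    rw [← pow_succ', Nat.sub_add_cancel n.2]
    exact hn⟩
  rw [(Nat.prime_dvd_prime_iff_eq hpr Nat.prime_two).1 (hpr.dvd_of_dvd_pow h)] at hp
  exact hp

end CfsgLib.Spectrum3D4
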